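import Groth.Agent.L05.SingLocus.Ring
import Groth.Agent.L21.Nodal.NodalMax
import Groth.Agent.L21.Nodal.NodalLimit
import Groth.Agent.L15.OmegaCoh
import Groth.Agent.L15.FittSheaf
import Groth.Agent.L19.OmegaSh.Affine
import Groth.Agent.S16253
import Mathlib.RingTheory.RingHom.Unramified
import Mathlib.RingTheory.RingHom.Etale

/-! The singular scheme of a nodal family is unramified over the base. -/

set_option autoImplicit false
set_option linter.style.haveILetI false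
set_option backward.isDefEq.respectTransparency.types false
set_option backward.isDefEq.respectTransparency false
set_option maxHeartbeats 1000000

universe u

open CategoryTheory CategoryTheory.Limits AlgebraicGeometry TopologicalSpace

noncomputable section

namespace Groth.L05.SingLocus

open Groth.L21.Nodal

variable {X S : Scheme.{u}} (f : X ⟶ S)

theorem smoothOne_or_isNode (hf : Curv2.IsNodalFamily f) (x : X) :
    (∃ U : X.Opens, x ∈ U ∧ SmoothOfRelativeDimension 1 (U.ι ≫ f)) ∨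
      @Curv2.IsNode (S.residueField (f.base x)) _ (f.fiber (f.base x)) ⟨f.fiberToSpecResidueField (f.base x)⟩
        (f.asFiber x) := by
  haveI := hf.1
  haveI := hf.2.1
  rcases smooth_or_isNode f ⊤ (comp_etale f (⊤ : X.Opens).ι hf) x trivial with ⟨U, hxU, hU⟩ | h
  · left
    have hsnd : Curv2.IsNodalFamily (pullback.snd f (𝟙 S)) :=
      isNodalFamily_of_isPullback (IsPullback.of_hasPullback f (𝟙 S)) hf
    obtain ⟨v, hv⟩ := (pullback.fst f (𝟙 S)).surjective x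
    obtain ⟨O, hO, -, hO1⟩ := exists_open_isNodalFamily_of_smooth f (𝟙 S) ⊤
      (comp_etale _ (⊤ : (pullback f (𝟙 S)).Opens).ι hsnd) v trivial U (hv.symm ▸ hxU) hU
    exact ⟨O, hv ▸ hO, hO1⟩
  · exact Or.inr h

/-- étale chart at a point over a node, on rings -/
theorem exists_chart_ring [Flat f] [LocallyOfFinitePresentation f] {V : S.Opens} (hV : IsAffineOpen V)
    {W : X.Opens} (hW : IsAffineOpen W) (e₀ : W ≤ f ⁻¹ᵁ V) (x : X) (hxW : x ∈ W)
    (hx : @Curv2.IsNode (S.residueField (f.base x)) _ (f.fiber (f.base x)) ⟨f.fiberToSpecResidueField (f.base x)⟩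
      (f.asFiber x)) :
    letI : Algebra Γ(S, V) Γ(X, W) := (f.appLE V W e₀).hom.toAlgebra
    ∃ (E : Type u) (_ : CommRing E) (_ : Algebra Γ(X, W) E) (_ : Algebra Γ(S, V) E)
      (_ : IsScalarTower Γ(S, V) Γ(X, W) E), Algebra.FormallyEtale Γ(X, W) E ∧
        (∃ Q : Ideal E, Q.IsPrime ∧ Q.comap (algebraMap Γ(X, W) E) = (hW.primeIdealOf ⟨x, hxW⟩).asIdeal) ∧
        Algebra.FormallyUnramified Γ(S, V)
          (E ⧸ (Fitt.ideal Γ(X, W) Ω[Γ(X, W)⁄Γ(S, V)] 1).map (algebraMap Γ(X, W) E)) := by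
  letI : Algebra Γ(S, V) Γ(X, W) := (f.appLE V W e₀).hom.toAlgebra
  haveI : Algebra.FinitePresentation Γ(S, V) Γ(X, W) := f.finitePresentation_appLE hV hW e₀
  obtain ⟨C, c, U, gU, gV, p, e, hgU, hgV, he, hcomm, hep, ⟨u, hu⟩⟩ := etale_local_structure f x hx
  have hpu : p u ∈ gV ⁻¹ᵁ V := by
    show gV (p u) ∈ V
    rw [← Scheme.Hom.comp_apply, ← hcomm, Scheme.Hom.comp_apply, hu]
    exact e₀ hxW
  obtain ⟨D, hD, huD, hDV⟩ := exists_isAffineOpen_mem_and_subset (x := p u) (U := gV ⁻¹ᵁ V) hpu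
  have hDV' : D ≤ gV ⁻¹ᵁ V := fun y hy => hDV hy
  obtain ⟨U', hU', huU', hle⟩ := exists_isAffineOpen_mem_and_subset (x := u) (U := gU ⁻¹ᵁ W ⊓ p ⁻¹ᵁ D)
    (show u ∈ gU ⁻¹ᵁ W ⊓ p ⁻¹ᵁ D from ⟨show gU u ∈ W from hu.symm ▸ hxW, huD⟩)
  have hUW : U' ≤ gU ⁻¹ᵁ W := fun y hy => (hle hy).1
  have hUD : U' ≤ p ⁻¹ᵁ D := fun y hy => (hle hy).2
  let E := Γ(U, U')
  letI : Algebra Γ(X, W) E := (gU.appLE W U' hUW).hom.toAlgebra
  letI : Algebra Γ(S, V) E := ((f.appLE V W e₀) ≫ gU.appLE W U' hUW).hom.toAlgebra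
  haveI : IsScalarTower Γ(S, V) Γ(X, W) E := IsScalarTower.of_algebraMap_eq' rfl
  haveI : Algebra.Etale Γ(X, W) E :=
    RingHom.etale_algebraMap.1 (HasRingHomProperty.appLE @Etale gU hgU ⟨W, hW⟩ ⟨U', hU'⟩ hUW)
  let M := CommRingCat.of (NodeModel C c)
  let ψ : M ⟶ Γ(U, U') := (Scheme.ΓSpecIso M).inv ≫ e.appLE ⊤ U' le_top
  haveI hψ : RingHom.Etale ψ.hom := by
    have := HasRingHomProperty.appLE @Etale e he ⟨⊤, isAffineOpen_top _⟩ ⟨U', hU'⟩ le_top
    exact RingHom.Etale.respectsIso.2 _ (Scheme.ΓSpecIso M).symm.commRingCatIsoToRingEquiv this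
  letI : Algebra (NodeModel C c) E := ψ.hom.toAlgebra
  haveI : Algebra.Etale (NodeModel C c) E := RingHom.etale_algebraMap.1 hψ
  letI : Algebra C E := (ψ.hom.comp (algebraMap C (NodeModel C c))).toAlgebra
  haveI : IsScalarTower C (NodeModel C c) E := ⟨fun r m z => by
    show algebraMap (NodeModel C c) E (r • m) * z = algebraMap C E r * (algebraMap (NodeModel C c) E m * z)
    rw [show r • m = algebraMap C (NodeModel C c) r * m from Algebra.smul_def r m, map_mul, mul_assoc]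
    rfl⟩
  let C' := Γ(Spec C, D)
  letI : Algebra Γ(S, V) C' := (gV.appLE V D hDV').hom.toAlgebra
  let ρ : C ⟶ Γ(Spec C, D) := (Scheme.ΓSpecIso C).inv ≫ (𝟙 (Spec C) : Spec C ⟶ Spec C).appLE ⊤ D le_top
  letI : Algebra C C' := ρ.hom.toAlgebra
  letI : Algebra C' E := (p.appLE D U' hUD).hom.toAlgebra
  haveI : IsScalarTower Γ(S, V) C' E := IsScalarTower.of_algebraMap_eq' (by
    show ((f.appLE V W e₀) ≫ gU.appLE W U' hUW).hom = ((gV.appLE V D hDV') ≫ p.appLE D U' hUD).hom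
    rw [Scheme.Hom.appLE_comp_appLE, Scheme.Hom.appLE_comp_appLE]
    congr 2)
  haveI : IsScalarTower C C' E := IsScalarTower.of_algebraMap_eq' (by
    show (CommRingCat.ofHom (algebraMap C (NodeModel C c)) ≫ ψ).hom = (ρ ≫ p.appLE D U' hUD).hom
    congr 1
    show _ ≫ (Scheme.ΓSpecIso M).inv ≫ _ = ((Scheme.ΓSpecIso C).inv ≫ _) ≫ _
    have h2 : (Spec.map (CommRingCat.ofHom (algebraMap C (NodeModel C c)))).appTop ≫ e.appLE ⊤ U' le_top =
        p.appLE ⊤ U' le_top := by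
      subst hep
      simp [Scheme.Hom.appLE, Scheme.Hom.appTop, Scheme.Hom.comp_app]
    rw [Scheme.ΓSpecIso_inv_naturality_assoc, Category.assoc, Scheme.Hom.appLE_comp_appLE]
    congr 1)
  haveI : Algebra.FormallyUnramified Γ(S, V) C' := by
    haveI : Algebra.Etale Γ(S, V) C' :=
      RingHom.etale_algebraMap.1 (HasRingHomProperty.appLE @Etale gV hgV ⟨V, hV⟩ ⟨D, hD⟩ hDV')
    infer_instance
  haveI : Algebra.FormallyUnramified C C' := by
    have := (inferInstance : FormallyUnramified (𝟙 (Spec C))).formallyUnramified_appLE (isAffineOpen_top _) hD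
      (show D ≤ (𝟙 (Spec C) : Spec C ⟶ Spec C) ⁻¹ᵁ ⊤ from le_top)
    exact RingHom.formallyUnramified_algebraMap.1
      (RingHom.FormallyUnramified.respectsIso.2 _ (Scheme.ΓSpecIso C).symm.commRingCatIsoToRingEquiv this)
  refine ⟨E, inferInstance, inferInstance, inferInstance, inferInstance, inferInstance,
    ⟨(hU'.primeIdealOf ⟨u, huU'⟩).asIdeal, inferInstance, ?_⟩, formallyUnramified_quotient (A := Γ(X, W)) c C'⟩
  subst hu
  exact congrArg PrimeSpectrum.asIdeal (IsAffineOpen.comap_primeIdealOf_appLE W hW U' hU' hUW huU')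

theorem formallyUnramified_fittOne [QuasiSeparated f] (hf : Curv2.IsNodalFamily f) :
    FormallyUnramified ((Fitt.sheafIdeal (Omega.sheaf f) 1).subschemeι ≫ f) := by
  haveI := hf.1
  haveI := hf.2.1
  set I := Fitt.sheafIdeal (Omega.sheaf f) 1 with hI
  have hcoh := Groth.L15.OmegaCoh.isCoh_omega f
  haveI := hcoh.1
  let ι := {P : S.affineOpens × X.affineOpens // P.2.1 ≤ f ⁻¹ᵁ P.1.1}
  rw [IsZariskiLocalAtSource.iff_of_iSup_eq_top (P := @FormallyUnramified)
    (fun P : ι => I.subschemeι ⁻¹ᵁ P.1.2.1) ?_]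
  swap
  · rw [eq_top_iff]
    intro z _
    obtain ⟨V, hV, hxV, -⟩ := exists_isAffineOpen_mem_and_subset (x := f (I.subschemeι z)) (U := ⊤) trivial
    obtain ⟨W, hW, hxW, hle⟩ := exists_isAffineOpen_mem_and_subset (x := I.subschemeι z) (U := f ⁻¹ᵁ V) hxV
    exact Opens.mem_iSup.2 ⟨⟨(⟨V, hV⟩, ⟨W, hW⟩), fun y hy => hle hy⟩, hxW⟩
  rintro ⟨⟨V, W⟩, (e₀ : W.1 ≤ f ⁻¹ᵁ V.1)⟩
  letI : Algebra Γ(S, V.1) Γ(X, W.1) := (f.appLE V.1 W.1 e₀).hom.toAlgebra
  haveI : Algebra.FinitePresentation Γ(S, V.1) Γ(X, W.1) := f.finitePresentation_appLE V.2 W.2 e₀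
  obtain ⟨es⟩ := Groth.L15.OmegaCoh.exists_sections_equiv f W.2 V.2 e₀
  have hideal : I.ideal W = Fitt.ideal Γ(X, W.1) Ω[Γ(X, W.1)⁄Γ(S, V.1)] 1 := by
    rw [hI, Groth.L15.FittSheaf.sheafIdeal_ideal _ hcoh.2]
    exact (Groth.L13.Fitting.ideal_congr es 1).symm
  have hring : Algebra.FormallyUnramified Γ(S, V.1) (Γ(X, W.1) ⧸ I.ideal W) := by
    rw [hideal]
    refine formallyUnramified_of_charts _ fun q hq hIq => ?_
    let x : X := W.2.fromSpec ⟨q, hq⟩
    have hxW : x ∈ W.1 := W.2.range_fromSpec.le ⟨_, rfl⟩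
    have hqx : (W.2.primeIdealOf ⟨x, hxW⟩).asIdeal = q := by
      have h := W.2.fromSpec_primeIdealOf ⟨x, hxW⟩
      rw [W.2.fromSpec.isOpenEmbedding.injective h]
    have hsupp : x ∈ I.support := by
      by_contra h
      rw [hI, Groth.L15.FittSheaf.notMem_support_iff _ hcoh.2 1 (U := W) hxW,
        ← Groth.L13.Fitting.ideal_congr es 1] at h
      exact h (hqx.symm ▸ hIq)
    have hnode : @Curv2.IsNode (S.residueField (f.base x)) _ (f.fiber (f.base x))
        ⟨f.fiberToSpecResidueField (f.base x)⟩ (f.asFiber x) := by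
      rcases smoothOne_or_isNode f hf x with ⟨U, hxU, hU⟩ | h
      · exact absurd hsupp ((Groth.Agent.S16253.result f 1 x).2
          ⟨U, U, 𝟙 _, U.ι ≫ f, hxU, inferInstance, hU, Category.id_comp _⟩)
      · exact h
    obtain ⟨E, _, _, _, _, h1, ⟨Q, hQ, hQc⟩, h2⟩ := exists_chart_ring f V.2 W.2 e₀ x hxW hnode
    exact ⟨E, inferInstance, inferInstance, inferInstance, inferInstance, h1, ⟨Q, hQ, hQc.trans hqx⟩, h2⟩
  have hZ : IsAffineOpen (I.subschemeι ⁻¹ᵁ W.1) := W.2.preimage I.subschemeι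
  have eZ : I.subschemeι ⁻¹ᵁ W.1 ≤ (I.subschemeι ≫ f) ⁻¹ᵁ V.1 := fun z hz => e₀ hz
  have happ : (I.subschemeι ≫ f).appLE V.1 (I.subschemeι ⁻¹ᵁ W.1) eZ =
      f.appLE V.1 W.1 e₀ ≫ CommRingCat.ofHom (Ideal.Quotient.mk (I.ideal W)) ≫ (I.subschemeObjIso W).inv := by
    rw [← Scheme.IdealSheafData.subschemeι_app, Scheme.Hom.app_eq_appLE, Scheme.Hom.appLE_comp_appLE]
  rw [← hZ.isoSpec_hom_fromSpec, Category.assoc,
    ← IsAffineOpen.SpecMap_appLE_fromSpec (I.subschemeι ≫ f) V.2 hZ eZ]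
  haveI : FormallyUnramified (Spec.map ((I.subschemeι ≫ f).appLE V.1 (I.subschemeι ⁻¹ᵁ W.1) eZ)) := by
    rw [HasRingHomProperty.Spec_iff (P := @FormallyUnramified), happ, ← Category.assoc]
    exact RingHom.FormallyUnramified.respectsIso.1 _ (I.subschemeObjIso W).symm.commRingCatIsoToRingEquiv
      (RingHom.formallyUnramified_algebraMap.2 hring)
  exact MorphismProperty.comp_mem _ _ _ inferInstance (MorphismProperty.comp_mem _ _ _ inferInstance inferInstance)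

theorem ideal_le_of_equiv {R M N : Type u} [CommRing R] [AddCommGroup M] [Module R M] [AddCommGroup N] [Module R N]
    (e : M ≃ₗ[R] N) (r : ℕ) : Fitt.ideal R M r ≤ Fitt.ideal R N r := by
  refine Ideal.span_mono ?_
  rintro d ⟨n, x, a, hx, ha, rfl⟩
  refine ⟨n, e ∘ x, a, ?_, fun i hi => ?_, rfl⟩
  · rw [Set.range_comp]
    show Submodule.span R (e.toLinearMap '' Set.range x) = ⊤
    rw [← Submodule.map_span, hx, Submodule.map_top, LinearEquiv.range]
  · rw [← map_zero e, ← ha i hi, map_sum]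
    simp

theorem sheafIdeal_congr {F G : X.Modules} (e : F ≅ G) (r : ℕ) : Fitt.sheafIdeal F r = Fitt.sheafIdeal G r := by
  unfold Fitt.sheafIdeal
  congr 1
  funext U
  let eU : Γ(F, U.1) ≃ₗ[Γ(X, U.1)] Γ(G, U.1) := (((SheafOfModules.forget X.ringCatSheaf ⋙
    PresheafOfModules.evaluation _ (Opposite.op U.1))).mapIso e).toLinearEquiv
  exact le_antisymm (ideal_le_of_equiv eU r) (ideal_le_of_equiv eU.symm r)

end Groth.L05.SingLocus
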