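import Groth.Agent.L04.CMBasic
import Groth.Agent.L04.CMLoc
import Groth.Agent.L21.Nodal.Extend
import Groth.Agent.L07.Avramov
import Groth.Agent.S19474

/-! A one-dimensional complete intersection which is reduced off the closed point is reduced. -/

set_option autoImplicit false
set_option linter.style.haveILetI false

universe u

open IsLocalRing

noncomputable section

namespace Groth.L05.SingLocus

variable {B : Type u} [CommRing B] [IsLocalRing B] [IsNoetherianRing B]

/-- a positive dimensional complete intersection has no nonzero element killed by the maximal ideal -/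
theorem eq_zero_of_forall_mul_eq_zero (hci : Pi1.IsCompleteIntersection B) (hdim : (1 : WithBot ℕ∞) ≤ ringKrullDim B)
    (b : B) (hb : ∀ a ∈ maximalIdeal B, a * b = 0) : b = 0 := by
  obtain ⟨R, _, _, rs, hrs, hreg, ⟨e⟩⟩ := hci
  set T := AdicCompletion (maximalIdeal B) B with hT
  let j : B →+* T := algebraMap B T
  by_contra hb0
  have hjb : j b ≠ 0 := fun h => hb0 (by
    rw [← Submodule.mem_bot B, ← Ideal.iInf_pow_eq_bot_of_isLocalRing (maximalIdeal B)
      (maximalIdeal.isMaximal _).ne_top, Submodule.mem_iInf]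
    exact fun n => Groth.L21.Nodal.mem_pow_of_algebraMap_mem (by rw [show algebraMap B T b = 0 from h]; exact zero_mem _))
  have hk : ∀ a ∈ maximalIdeal T, a * j b = 0 := fun a ha => by
    rw [AdicCompletion.maximalIdeal_eq_map] at ha
    induction ha using Submodule.span_induction with
    | mem x hx => obtain ⟨x, hx, rfl⟩ := hx; rw [← map_mul, hb x hx, map_zero]
    | zero => exact zero_mul _
    | add x y _ _ hx hy => rw [add_mul, hx, hy, add_zero]
    | smul c x _ hx => rw [smul_eq_mul, mul_assoc, hx, mul_zero]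
  let J : Ideal R := Ideal.span {r | r ∈ rs}
  have hJ : Ideal.ofList rs = J := rfl
  haveI : Nontrivial (R ⧸ J) := e.symm.toEquiv.nontrivial
  haveI : IsLocalHom (Ideal.Quotient.mk J) := IsLocalHom.of_surjective _ Ideal.Quotient.mk_surjective
  have hJeq : Ideal.ofList rs • (⊤ : Submodule R R) = (J : Submodule R R) := by
    rw [hJ, smul_eq_mul, Ideal.mul_top]
  have hCM := Groth.L04.isCohenMacaulayModule_quotient_ofList (R := R) (M := R)
    (Groth.L04.isCohenMacaulayLocalRing_of_regular R).supportDim_eq_depth hreg.toIsWeaklyRegular hrs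
  let eQ : (R ⧸ Ideal.ofList rs • (⊤ : Submodule R R)) ≃ₗ[R] (R ⧸ J) := Submodule.quotEquivOfEq _ _ hJeq
  have hass : maximalIdeal R ∈ associatedPrimes R (R ⧸ Ideal.ofList rs • (⊤ : Submodule R R)) := by
    refine (show IsAssociatedPrime (maximalIdeal R) (R ⧸ J) from ?_).map_of_injective eQ.symm.toLinearMap eQ.symm.injective
    refine ⟨(maximalIdeal.isMaximal R).isPrime, e (j b), ?_⟩
    have hle : maximalIdeal R ≤ (⊥ : Submodule R (R ⧸ J)).colon {e (j b)} := fun r hr => by
      rw [Submodule.mem_colon_singleton, Submodule.mem_bot, Algebra.smul_def, Ideal.Quotient.algebraMap_eq,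
        ← e.apply_symm_apply (Ideal.Quotient.mk J r), ← map_mul]
      rw [hk _ ((mem_maximalIdeal _).2 fun hu => ?_), map_zero]
      exact (mem_maximalIdeal _).1 hr (isUnit_of_map_unit (Ideal.Quotient.mk J) r (by simpa using hu.map e))
    refine le_antisymm (hle.trans Ideal.le_radical) (IsLocalRing.le_maximalIdeal ?_)
    rw [Ne, Ideal.radical_eq_top, Ideal.eq_top_iff_one, Submodule.mem_colon_singleton, Submodule.mem_bot, one_smul,
      map_eq_zero_iff _ e.injective]
    exact hjb
  have h0 := Groth.L04.ringKrullDim_quotient_eq_supportDim_of_isCM hCM hass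
  have hsd : Module.supportDim R (R ⧸ Ideal.ofList rs • (⊤ : Submodule R R)) = ringKrullDim T := by
    rw [Module.supportDim_eq_of_equiv eQ, Module.supportDim_quotient_eq_ringKrullDim,
      ← ringKrullDim_eq_of_ringEquiv e]
  rw [hsd, (Groth.Agent.S19474.result B _ (maximalIdeal.isMaximal B).ne_top).1] at h0
  rw [← h0] at hdim
  have : IsField (R ⧸ maximalIdeal R) := (Ideal.Quotient.maximal_ideal_iff_isField_quotient _).1 inferInstance
  rw [ringKrullDim_eq_zero_of_isField this] at hdim
  exact absurd hdim (by norm_num)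

theorem isReduced_of_ci (hci : Pi1.IsCompleteIntersection B) (hdim : (1 : WithBot ℕ∞) ≤ ringKrullDim B)
    (h : ∀ (p : Ideal B) [p.IsPrime], p ≠ maximalIdeal B → _root_.IsReduced (Localization.AtPrime p)) :
    _root_.IsReduced B := by
  refine ⟨fun n hn => by_contra fun hn0 => ?_⟩
  obtain ⟨P, hP, hle⟩ := exists_le_isAssociatedPrime_of_isNoetherianRing B n hn0
  haveI := hP.isPrime
  by_cases hPm : P = maximalIdeal B
  · obtain ⟨x, hx⟩ := ((isAssociatedPrime_iff_exists_injective_linearMap P B).1 hP).2
    let y := x (Submodule.Quotient.mk 1)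
    have hy0 : y ≠ 0 := fun h0 => hP.isPrime.ne_top ((Ideal.eq_top_iff_one P).2
      ((Submodule.Quotient.mk_eq_zero P).1 (hx (h0.trans (map_zero x).symm))))
    refine hy0 (eq_zero_of_forall_mul_eq_zero hci hdim y fun a ha => ?_)
    rw [← smul_eq_mul, ← map_smul, ← Submodule.Quotient.mk_smul, smul_eq_mul, mul_one,
      (Submodule.Quotient.mk_eq_zero P).2 (hPm ▸ ha), map_zero]
  · haveI := h P hPm
    have hz := (hn.map (algebraMap B (Localization.AtPrime P))).eq_zero
    obtain ⟨s, hs⟩ := (IsLocalization.map_eq_zero_iff P.primeCompl _ n).1 hz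
    exact s.2 (hle (by rw [Submodule.mem_colon_singleton, Submodule.mem_bot]; exact hs))

end Groth.L05.SingLocus
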