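import Groth.Agent.L13.Fitting.Minors
import Groth.Agent.L21.Nodal.QuadConverse
import Groth.Agent.S1631
import Mathlib.RingTheory.Ideal.Cotangent
import Mathlib.RingTheory.RegularLocalRing.Defs
import Mathlib.RingTheory.Kaehler.Polynomial
import Mathlib.LinearAlgebra.Dimension.OrzechProperty
import Mathlib.LinearAlgebra.Matrix.Determinant.Basic
import Mathlib.RingTheory.Kaehler.TensorProduct
import Mathlib.Algebra.MvPolynomial.PDeriv

/-!
A reduced local algebra over an algebraically closed field whose differentials have the maximal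
ideal as first Fitting ideal is an ordinary double point.
-/

set_option autoImplicit false
set_option linter.unusedSectionVars false
set_option linter.style.haveILetI false
set_option backward.isDefEq.respectTransparency.types false
set_option maxSynthPendingDepth 3

universe u

open IsLocalRing MvPolynomial
open scoped TensorProduct

noncomputable section

namespace Groth.L05.SingLocus

variable {F B : Type u} [Field F] [CommRing B] [IsLocalRing B] [IsNoetherianRing B] [Algebra F B]
  [Algebra.EssFiniteType F B]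

theorem exists_coeff (hres : ∀ b : B, ∃ c : F, b - algebraMap F B c ∈ maximalIdeal B) :
    ∃ κ : B →ₐ[F] F, ∀ b, b - algebraMap F B (κ b) ∈ maximalIdeal B := by
  have hσ : Function.Bijective ((residue B).comp (algebraMap F B)) := ⟨RingHom.injective _, fun z => by
    obtain ⟨b, rfl⟩ := residue_surjective z
    obtain ⟨c, hc⟩ := hres b
    refine ⟨c, ?_⟩
    rw [← residue_eq_zero_iff, map_sub, sub_eq_zero] at hc
    exact hc.symm⟩
  let σ := RingEquiv.ofBijective _ hσ
  refine ⟨{ σ.symm.toRingHom.comp (residue B) with commutes' := fun c => σ.symm_apply_apply c }, fun b => ?_⟩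
  rw [← residue_eq_zero_iff, map_sub, sub_eq_zero]
  exact (σ.apply_symm_apply (residue B b)).symm

theorem exists_min_gens : ∃ t : Fin (Module.finrank (ResidueField B) (CotangentSpace B)) → B,
    Ideal.span (Set.range t) = maximalIdeal B := by
  classical
  have hfg : Submodule.FG (maximalIdeal B : Submodule B B) := IsNoetherian.noetherian _
  haveI := (Submodule.FG.finite_generators hfg).fintype
  have hcard : Fintype.card (maximalIdeal B : Submodule B B).generators =
      Module.finrank (ResidueField B) (CotangentSpace B) := by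
    rw [← spanFinrank_maximalIdeal_eq_finrank_cotangentSpace, ← Nat.card_eq_fintype_card, Nat.card_coe_set_eq]
    exact Submodule.FG.generators_ncard hfg
  let σ := Fintype.equivFinOfCardEq hcard
  refine ⟨fun i => (σ.symm i).1, ?_⟩
  rw [show Set.range (fun i => (σ.symm i).1) = (maximalIdeal B : Submodule B B).generators from by
    rw [show (fun i => (σ.symm i).1) = Subtype.val ∘ σ.symm from rfl, σ.symm.surjective.range_comp, Subtype.range_coe]]
  exact Submodule.span_generators _

variable (hres : ∀ b : B, ∃ c : F, b - algebraMap F B c ∈ maximalIdeal B)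
include hres

theorem span_D_gens {e : ℕ} {t : Fin e → B} (ht : Ideal.span (Set.range t) = maximalIdeal B) :
    Submodule.span B (Set.range fun i => KaehlerDifferential.D F B (t i)) = ⊤ := by
  set N := Submodule.span B (Set.range fun i => KaehlerDifferential.D F B (t i)) with hN
  refine top_le_iff.1 (Submodule.le_of_le_smul_of_le_jacobson_bot (I := maximalIdeal B)
    (Module.Finite.fg_top (R := B) (M := Ω[B⁄F])) (IsLocalRing.maximalIdeal_le_jacobson ⊥) ?_)
  have hm : ∀ z, z ∈ maximalIdeal B → KaehlerDifferential.D F B z ∈ N ⊔ maximalIdeal B • ⊤ := by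
    intro z hz
    rw [← ht] at hz
    obtain ⟨r, rfl⟩ := Ideal.mem_span_range_iff_exists_fun.1 hz
    rw [map_sum]
    refine Submodule.sum_mem _ fun i _ => ?_
    rw [Derivation.leibniz]
    exact add_mem (Submodule.mem_sup_left (Submodule.smul_mem _ _ (Submodule.subset_span ⟨i, rfl⟩)))
      (Submodule.mem_sup_right (Submodule.smul_mem_smul (ht ▸ Ideal.subset_span ⟨i, rfl⟩) Submodule.mem_top))
  rw [← KaehlerDifferential.span_range_derivation F B, Submodule.span_le]
  rintro _ ⟨b, rfl⟩
  rw [KaehlerDifferential.span_range_derivation]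
  obtain ⟨c, hc⟩ := hres b
  have := hm _ hc
  rwa [map_sub, Derivation.map_algebraMap, sub_zero] at this

omit hres in
theorem coeff_mem_of_cotangent {e : ℕ} {t : Fin e → B} (ht : Ideal.span (Set.range t) = maximalIdeal B)
    (he : Module.finrank (ResidueField B) (CotangentSpace B) = e) (z : Fin e → B) (htm : ∀ i, t i ∈ maximalIdeal B)
    (h1 : ∑ i, residue B (z i) • ((maximalIdeal B).toCotangent ⟨t i, htm i⟩ : CotangentSpace B) = 0) (i : Fin e) :
    z i ∈ maximalIdeal B := by
  let T : Fin e → CotangentSpace B := fun i => (maximalIdeal B).toCotangent ⟨t i, htm i⟩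
  have hsp : ⊤ ≤ Submodule.span (ResidueField B) (Set.range T) := by
    intro v _
    obtain ⟨⟨w, hw⟩, rfl⟩ := Ideal.toCotangent_surjective _ v
    rw [← ht] at hw
    obtain ⟨r, rfl⟩ := Ideal.mem_span_range_iff_exists_fun.1 hw
    have : (maximalIdeal B).toCotangent ⟨∑ i, r i * t i, ht ▸ Ideal.mem_span_range_iff_exists_fun.2 ⟨r, rfl⟩⟩ =
        ∑ i, residue B (r i) • T i := by
      rw [show (⟨∑ i, r i * t i, _⟩ : maximalIdeal B) = ∑ i, r i • (⟨t i, htm i⟩ : maximalIdeal B) from
        Subtype.ext (by simp), map_sum]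
      exact Finset.sum_congr rfl fun i _ => map_smul _ _ _
    rw [this]
    exact Submodule.sum_mem _ fun i _ => Submodule.smul_mem _ _ (Submodule.subset_span ⟨i, rfl⟩)
  have hli := linearIndependent_of_top_le_span_of_card_eq_finrank hsp (by rw [Fintype.card_fin, he])
  rw [← residue_eq_zero_iff]
  exact Fintype.linearIndependent_iff.1 hli _ h1 i

omit hres in
theorem coeff_mem_of_sum_mem_sq {e : ℕ} {t : Fin e → B} (ht : Ideal.span (Set.range t) = maximalIdeal B)
    (he : Module.finrank (ResidueField B) (CotangentSpace B) = e) (z : Fin e → B)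
    (hz : ∑ i, z i * t i ∈ maximalIdeal B ^ 2) (i : Fin e) : z i ∈ maximalIdeal B := by
  have htm : ∀ i, t i ∈ maximalIdeal B := fun i => ht ▸ Ideal.subset_span ⟨i, rfl⟩
  refine coeff_mem_of_cotangent ht he z htm ?_ i
  have : (maximalIdeal B).toCotangent (∑ i, z i • (⟨t i, htm i⟩ : maximalIdeal B)) = 0 := by
    rw [Ideal.toCotangent_eq_zero]
    simpa using hz
  rw [map_sum] at this
  rw [← this]
  exact Finset.sum_congr rfl fun i _ => (map_smul (maximalIdeal B).toCotangent (z i) _).symm

theorem coeff_mem_of_relation {e : ℕ} {t : Fin e → B} (ht : Ideal.span (Set.range t) = maximalIdeal B)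
    (he : Module.finrank (ResidueField B) (CotangentSpace B) = e) (z : Fin e → B)
    (hz : ∑ i, z i • KaehlerDifferential.D F B (t i) = 0) (i : Fin e) : z i ∈ maximalIdeal B := by
  obtain ⟨κ, hκ⟩ := exists_coeff hres
  have htm : ∀ i, t i ∈ maximalIdeal B := fun i => ht ▸ Ideal.subset_span ⟨i, rfl⟩
  let T : Fin e → CotangentSpace B := fun i => (maximalIdeal B).toCotangent ⟨t i, htm i⟩
  let lin : B →ₗ[F] (maximalIdeal B).Cotangent :=
    { toFun := fun b => (maximalIdeal B).toCotangent ⟨b - algebraMap F B (κ b), hκ b⟩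
      map_add' := fun a b => by
        rw [← map_add]
        congr 1
        ext
        simp
        ring
      map_smul' := fun c b => by
        rw [RingHom.id_apply, ← algebraMap_smul B c ((maximalIdeal B).toCotangent _), ← map_smul (maximalIdeal B).toCotangent]
        congr 1
        ext
        simp [Algebra.smul_def]
        ring }
  let D : Derivation F B (maximalIdeal B).Cotangent := Derivation.mk' lin fun a b => by
    show (maximalIdeal B).toCotangent _ = a • (maximalIdeal B).toCotangent _ + b • (maximalIdeal B).toCotangent _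
    rw [← map_smul, ← map_smul, ← map_add, Ideal.toCotangent_eq, pow_two]
    convert neg_mem (Ideal.mul_mem_mul (hκ a) (hκ b)) using 1
    simp
    ring
  have hκ0 : ∀ i, algebraMap F B (κ (t i)) = 0 := fun i => by
    by_contra hne
    have hu : IsUnit (algebraMap F B (κ (t i))) := (IsUnit.mk0 _ fun h => hne (by rw [h, map_zero])).map _
    have := sub_mem (htm i) (hκ (t i))
    rw [sub_sub_cancel] at this
    exact (mem_maximalIdeal _).1 this hu
  have hD : ∀ i, D (t i) = T i := fun i => by
    show (maximalIdeal B).toCotangent _ = (maximalIdeal B).toCotangent _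
    congr 1
    ext
    simp [hκ0]
  have h1 : ∑ i, residue B (z i) • T i = 0 := by
    have := congrArg D.liftKaehlerDifferential hz
    simp only [map_sum, map_smul, Derivation.liftKaehlerDifferential_comp_D, map_zero, hD] at this
    exact this
  exact coeff_mem_of_cotangent ht he z htm h1 i

/-- the first Fitting ideal is deep in the maximal ideal when there are many parameters -/
theorem fitt_le_pow {e : ℕ} (he : Module.finrank (ResidueField B) (CotangentSpace B) = e) :
    Fitt.ideal B Ω[B⁄F] 1 ≤ maximalIdeal B ^ (e - 1) := by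
  classical
  subst he
  obtain ⟨t, ht⟩ := exists_min_gens (B := B)
  rw [Groth.L13.Fitting.ideal_eq_tup _ (span_D_gens hres ht), Groth.L13.Fitting.tup_eq_minors]
  refine Ideal.span_le.2 ?_
  rintro _ ⟨z, e', hz, rfl⟩
  rw [SetLike.mem_coe, Matrix.det_apply]
  refine Submodule.sum_mem _ fun σ _ => Submodule.smul_of_tower_mem _ _ ?_
  have := Ideal.prod_mem_prod (s := Finset.univ) (I := fun _ : Fin (Module.finrank (ResidueField B) (CotangentSpace B) - 1) => maximalIdeal B)
    (x := fun a => Matrix.of (fun a b => z b (e' a)) (σ a) a) fun a _ => coeff_mem_of_relation hres ht rfl _ (hz a) _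
  simpa using this

theorem finrank_le_one_of_fitt_top (hF : Fitt.ideal B Ω[B⁄F] 1 = ⊤) :
    Module.finrank (ResidueField B) (CotangentSpace B) ≤ 1 := by
  by_contra h
  push Not at h
  have h1 := fitt_le_pow hres (e := Module.finrank (ResidueField B) (CotangentSpace B)) rfl
  rw [hF, top_le_iff] at h1
  exact (maximalIdeal.isMaximal B).ne_top
    (top_le_iff.1 (h1.ge.trans (Ideal.pow_le_self (by omega))))

theorem isRegularLocalRing_of_fitt_top (hF : Fitt.ideal B Ω[B⁄F] 1 = ⊤) (hdim : (1 : WithBot ℕ∞) ≤ ringKrullDim B) :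
    IsRegularLocalRing B := by
  refine IsRegularLocalRing.of_spanFinrank_maximalIdeal_le B (le_trans ?_ hdim)
  rw [spanFinrank_maximalIdeal_eq_finrank_cotangentSpace]
  exact_mod_cast finrank_le_one_of_fitt_top hres hF

theorem finrank_eq_two_of_fitt_max (hF : Fitt.ideal B Ω[B⁄F] 1 = maximalIdeal B) :
    Module.finrank (ResidueField B) (CotangentSpace B) = 2 := by
  obtain ⟨t, ht⟩ := exists_min_gens (B := B)
  refine le_antisymm ?_ ?_
  · by_contra h
    push Not at h
    have h1 := fitt_le_pow hres (e := Module.finrank (ResidueField B) (CotangentSpace B)) rfl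
    rw [hF] at h1
    have h2 : maximalIdeal B ≤ maximalIdeal B • maximalIdeal B := by
      rw [smul_eq_mul, ← pow_two]
      exact h1.trans (Ideal.pow_le_pow_right (by omega))
    have h3 := Submodule.eq_bot_of_le_smul_of_le_jacobson_bot _ _ (IsNoetherian.noetherian _) h2
      (IsLocalRing.maximalIdeal_le_jacobson ⊥)
    have h4 : Module.finrank (ResidueField B) (CotangentSpace B) ≤ 1 :=
      finrank_cotangentSpace_le_one_iff.2 ⟨0, by rw [h3]; simp⟩
    omega
  · by_contra h
    push Not at h
    have := Groth.L13.Fitting.ideal_eq_tup _ (span_D_gens hres ht) 1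
    rw [Groth.L13.Fitting.tup_eq_top _ (by omega), hF] at this
    exact (maximalIdeal.isMaximal B).ne_top this

omit hres in
theorem eval_expansion (x y : B) (hx : x ∈ maximalIdeal B) (hy : y ∈ maximalIdeal B) (g : MvPolynomial (Fin 2) F) :
    ∃ c₀ l₀ l₁ a b c : F,
      aeval ![x, y] g - (algebraMap F B c₀ + algebraMap F B l₀ * x + algebraMap F B l₁ * y + algebraMap F B a * x ^ 2 +
        algebraMap F B b * (x * y) + algebraMap F B c * y ^ 2) ∈ maximalIdeal B ^ 3 ∧
      aeval ![x, y] (pderiv 0 g) - (algebraMap F B l₀ + 2 * algebraMap F B a * x + algebraMap F B b * y) ∈ maximalIdeal B ^ 2 ∧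
      aeval ![x, y] (pderiv 1 g) - (algebraMap F B l₁ + algebraMap F B b * x + 2 * algebraMap F B c * y) ∈ maximalIdeal B ^ 2 := by
  have m2 : ∀ {p q : B}, p ∈ maximalIdeal B → q ∈ maximalIdeal B → p * q ∈ maximalIdeal B ^ 2 := fun hp hq => by
    rw [pow_two]; exact Ideal.mul_mem_mul hp hq
  have m3 : ∀ {p q : B}, p ∈ maximalIdeal B ^ 2 → q ∈ maximalIdeal B → p * q ∈ maximalIdeal B ^ 3 := fun hp hq => by
    rw [pow_succ]; exact Ideal.mul_mem_mul hp hq
  induction g using MvPolynomial.induction_on with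
  | C r => exact ⟨r, 0, 0, 0, 0, 0, by simp, by simp, by simp⟩
  | add p q hp hq =>
    obtain ⟨c₀, l₀, l₁, a, b, c, h₁, h₂, h₃⟩ := hp
    obtain ⟨c₀', l₀', l₁', a', b', c', h₁', h₂', h₃'⟩ := hq
    refine ⟨c₀ + c₀', l₀ + l₀', l₁ + l₁', a + a', b + b', c + c', ?_, ?_, ?_⟩
    · convert add_mem h₁ h₁' using 1; simp only [map_add]; ring
    · convert add_mem h₂ h₂' using 1; simp only [map_add]; ring
    · convert add_mem h₃ h₃' using 1; simp only [map_add]; ring
  | mul_X p i hp =>
    obtain ⟨c₀, l₀, l₁, a, b, c, h₁, h₂, h₃⟩ := hp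
    fin_cases i
    · refine ⟨0, c₀, 0, l₀, l₁, 0, ?_, ?_, ?_⟩
      · have h := Ideal.mul_mem_right x _ h₁
        have h' : algebraMap F B a * (x ^ 2 * x) + algebraMap F B b * (x * y * x) + algebraMap F B c * (y ^ 2 * x) ∈
            maximalIdeal B ^ 3 := add_mem (add_mem (Ideal.mul_mem_left _ _ (m3 (Ideal.pow_mem_pow hx 2) hx))
              (Ideal.mul_mem_left _ _ (m3 (m2 hx hy) hx))) (Ideal.mul_mem_left _ _ (m3 (Ideal.pow_mem_pow hy 2) hx))
        convert add_mem h h' using 1
        simp
        ring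
      · have h : aeval ![x, y] p - (algebraMap F B c₀ + algebraMap F B l₀ * x + algebraMap F B l₁ * y) ∈
            maximalIdeal B ^ 2 := by
          convert add_mem (Ideal.pow_le_pow_right (by norm_num : 2 ≤ 3) h₁) (add_mem (add_mem
            (Ideal.mul_mem_left _ (algebraMap F B a) (Ideal.pow_mem_pow hx 2))
            (Ideal.mul_mem_left _ (algebraMap F B b) (m2 hx hy)))
            (Ideal.mul_mem_left _ (algebraMap F B c) (Ideal.pow_mem_pow hy 2))) using 1
          ring
        have h' := add_mem (add_mem (Ideal.mul_mem_right x _ h₂)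
          (Ideal.mul_mem_left _ (2 * algebraMap F B a) (m2 hx hx))) (Ideal.mul_mem_left _ (algebraMap F B b) (m2 hy hx))
        convert add_mem h h' using 1
        simp [pderiv_mul]
        ring
      · have h' := add_mem (add_mem (Ideal.mul_mem_right x _ h₃)
          (Ideal.mul_mem_left _ (algebraMap F B b) (m2 hx hx))) (Ideal.mul_mem_left _ (2 * algebraMap F B c) (m2 hy hx))
        convert h' using 1
        simp [pderiv_mul]
        ring
    · refine ⟨0, 0, c₀, 0, l₀, l₁, ?_, ?_, ?_⟩
      · have h := Ideal.mul_mem_right y _ h₁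
        have h' : algebraMap F B a * (x ^ 2 * y) + algebraMap F B b * (x * y * y) + algebraMap F B c * (y ^ 2 * y) ∈
            maximalIdeal B ^ 3 := add_mem (add_mem (Ideal.mul_mem_left _ _ (m3 (Ideal.pow_mem_pow hx 2) hy))
              (Ideal.mul_mem_left _ _ (m3 (m2 hx hy) hy))) (Ideal.mul_mem_left _ _ (m3 (Ideal.pow_mem_pow hy 2) hy))
        convert add_mem h h' using 1
        simp
        ring
      · have h' := add_mem (add_mem (Ideal.mul_mem_right y _ h₂)
          (Ideal.mul_mem_left _ (2 * algebraMap F B a) (m2 hx hy))) (Ideal.mul_mem_left _ (algebraMap F B b) (m2 hy hy))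
        convert h' using 1
        simp [pderiv_mul]
        ring
      · have h : aeval ![x, y] p - (algebraMap F B c₀ + algebraMap F B l₀ * x + algebraMap F B l₁ * y) ∈
            maximalIdeal B ^ 2 := by
          convert add_mem (Ideal.pow_le_pow_right (by norm_num : 2 ≤ 3) h₁) (add_mem (add_mem
            (Ideal.mul_mem_left _ (algebraMap F B a) (Ideal.pow_mem_pow hx 2))
            (Ideal.mul_mem_left _ (algebraMap F B b) (m2 hx hy)))
            (Ideal.mul_mem_left _ (algebraMap F B c) (Ideal.pow_mem_pow hy 2))) using 1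
          ring
        have h' := add_mem (add_mem (Ideal.mul_mem_right y _ h₃)
          (Ideal.mul_mem_left _ (algebraMap F B b) (m2 hx hy))) (Ideal.mul_mem_left _ (2 * algebraMap F B c) (m2 hy hy))
        convert add_mem h h' using 1
        simp [pderiv_mul]
        ring

theorem exists_quad_of_relation (t : Fin 2 → B) (ht : Ideal.span (Set.range t) = maximalIdeal B)
    (he : Module.finrank (ResidueField B) (CotangentSpace B) = 2) (z : Fin 2 → B)
    (hz : ∑ i, z i • KaehlerDifferential.D F B (t i) = 0) :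
    ∃ a b c : F, algebraMap F B a * t 0 ^ 2 + algebraMap F B b * (t 0 * t 1) + algebraMap F B c * t 1 ^ 2 ∈
        maximalIdeal B ^ 3 ∧
      z 0 - (2 * algebraMap F B a * t 0 + algebraMap F B b * t 1) ∈ maximalIdeal B ^ 2 ∧
      z 1 - (algebraMap F B b * t 0 + 2 * algebraMap F B c * t 1) ∈ maximalIdeal B ^ 2 := by
  let P := MvPolynomial (Fin 2) F
  let B₃ := B ⧸ maximalIdeal B ^ 3
  let π := Ideal.Quotient.mk (maximalIdeal B ^ 3)
  have htm : ∀ i, t i ∈ maximalIdeal B := fun i => ht ▸ Ideal.subset_span ⟨i, rfl⟩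
  let ev : P →ₐ[F] B := aeval t
  have hev : ∀ n : ℕ, ∀ w ∈ maximalIdeal B ^ n, ∃ p : P, w - ev p ∈ maximalIdeal B ^ (n + 1) := by
    intro n
    induction n with
    | zero =>
      intro w _
      obtain ⟨c, hc⟩ := hres w
      exact ⟨MvPolynomial.C c, by rw [zero_add, pow_one, show ev (MvPolynomial.C c) = algebraMap F B c from aeval_C _ _]; exact hc⟩
    | succ n ih =>
      intro w hw
      rw [pow_succ] at hw
      induction hw using Submodule.mul_induction_on' with
      | mem_mul_mem a ha b hb =>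
        rw [← ht] at hb
        obtain ⟨r, rfl⟩ := Ideal.mem_span_range_iff_exists_fun.1 hb
        choose p hp using fun i => ih (a * r i) (Ideal.mul_mem_right _ _ ha)
        refine ⟨∑ i, p i * MvPolynomial.X i, ?_⟩
        rw [map_sum, Finset.mul_sum, ← Finset.sum_sub_distrib]
        refine Submodule.sum_mem _ fun i _ => ?_
        rw [map_mul, show ev (MvPolynomial.X i) = t i from aeval_X _ _, ← mul_assoc, ← sub_mul, pow_succ]
        exact Ideal.mul_mem_mul (hp i) (htm i)
      | add a _ b _ hpa hpb =>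
        obtain ⟨p, hp⟩ := hpa
        obtain ⟨q, hq⟩ := hpb
        exact ⟨p + q, by rw [map_add, add_sub_add_comm]; exact add_mem hp hq⟩
  let φ : P →ₐ[F] B₃ := (Ideal.Quotient.mkₐ F _).comp ev
  have hφ : Function.Surjective φ := fun v => by
    obtain ⟨w, rfl⟩ := Ideal.Quotient.mk_surjective v
    obtain ⟨p₀, h₀⟩ := hev 0 w (by simp)
    obtain ⟨p₁, h₁⟩ := hev 1 _ h₀
    obtain ⟨p₂, h₂⟩ := hev 2 _ h₁
    refine ⟨p₀ + p₁ + p₂, Ideal.Quotient.eq.2 ?_⟩
    convert neg_mem h₂ using 1
    show ev (p₀ + p₁ + p₂) - w = _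
    rw [map_add, map_add]
    ring
  letI : Algebra P B₃ := φ.toRingHom.toAlgebra
  haveI : IsScalarTower F P B₃ := IsScalarTower.of_algebraMap_eq' φ.comp_algebraMap.symm
  let e := (KaehlerDifferential.mvPolynomialBasis F (Fin 2)).baseChange B₃
  let bc := KaehlerDifferential.mapBaseChange F P B₃
  have hrepr : ∀ (p : P) (j : Fin 2),
      e.repr ((1 : B₃) ⊗ₜ[P] KaehlerDifferential.D F P p) j = φ (pderiv j p) := fun p j => by
    rw [Module.Basis.baseChange_repr_tmul, KaehlerDifferential.mvPolynomialBasis_repr_apply, Algebra.smul_def,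
      mul_one]
    rfl
  have he' : ∀ j, e j = (1 : B₃) ⊗ₜ[P] KaehlerDifferential.D F P (MvPolynomial.X j) := fun j => by
    rw [Module.Basis.baseChange_apply, KaehlerDifferential.mvPolynomialBasis_apply]
  have hw : bc (∑ j, π (z j) • e j) = 0 := by
    have h1 := congrArg (KaehlerDifferential.map F F B B₃) hz
    rw [map_sum, map_zero] at h1
    rw [map_sum, ← h1]
    refine Finset.sum_congr rfl fun j _ => ?_
    rw [map_smul, map_smul, KaehlerDifferential.map_D, he', KaehlerDifferential.mapBaseChange_tmul,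
      KaehlerDifferential.map_D, one_smul,
      show algebraMap P B₃ (MvPolynomial.X j) = algebraMap B B₃ (t j) from congrArg π (aeval_X _ _)]
    exact algebraMap_smul B₃ _ _
  obtain ⟨y, hy⟩ := (KaehlerDifferential.exact_kerCotangentToTensor_mapBaseChange F P B₃ hφ _).mp hw
  obtain ⟨⟨g, hg⟩, rfl⟩ := Ideal.toCotangent_surjective _ y
  rw [KaehlerDifferential.kerCotangentToTensor_toCotangent] at hy
  have hzg : ∀ j, z j - ev (pderiv j g) ∈ maximalIdeal B ^ 3 := fun j => by
    have hj := congrArg (fun v => e.repr v j) hy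
    simp only [hrepr] at hj
    rw [e.repr_sum_self fun j => π (z j)] at hj
    exact Ideal.Quotient.eq.1 hj.symm
  have hg' : ev g ∈ maximalIdeal B ^ 3 := Ideal.Quotient.eq_zero_iff_mem.1 (RingHom.mem_ker.1 hg)
  have htv : (![t 0, t 1] : Fin 2 → B) = t := by ext i; fin_cases i <;> rfl
  obtain ⟨c₀, l₀, l₁, a, b, c, h₁, h₂, h₃⟩ := eval_expansion (t 0) (t 1) (htm 0) (htm 1) g
  rw [htv] at h₁ h₂ h₃
  change ev g - _ ∈ _ at h₁
  have hlow : algebraMap F B c₀ + algebraMap F B l₀ * t 0 + algebraMap F B l₁ * t 1 +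
      (algebraMap F B a * t 0 ^ 2 + algebraMap F B b * (t 0 * t 1) + algebraMap F B c * t 1 ^ 2) ∈
        maximalIdeal B ^ 3 := by
    convert sub_mem hg' h₁ using 1
    ring
  have hm2 : algebraMap F B a * t 0 ^ 2 + algebraMap F B b * (t 0 * t 1) + algebraMap F B c * t 1 ^ 2 ∈
      maximalIdeal B ^ 2 := by
    refine add_mem (add_mem (Ideal.mul_mem_left _ _ (Ideal.pow_mem_pow (htm 0) 2)) (Ideal.mul_mem_left _ _ ?_))
      (Ideal.mul_mem_left _ _ (Ideal.pow_mem_pow (htm 1) 2))
    rw [pow_two]
    exact Ideal.mul_mem_mul (htm 0) (htm 1)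
  have hlin : algebraMap F B c₀ + algebraMap F B l₀ * t 0 + algebraMap F B l₁ * t 1 ∈ maximalIdeal B ^ 2 := by
    convert sub_mem (Ideal.pow_le_pow_right (by norm_num : 2 ≤ 3) hlow) hm2 using 1
    ring
  have hc₀ : c₀ = 0 := by
    by_contra hne
    refine (mem_maximalIdeal (algebraMap F B c₀)).1 ?_ ((IsUnit.mk0 _ hne).map _)
    convert sub_mem (Ideal.pow_le_self two_ne_zero hlin) (add_mem (Ideal.mul_mem_left _ (algebraMap F B l₀) (htm 0))
      (Ideal.mul_mem_left _ (algebraMap F B l₁) (htm 1))) using 1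
    ring
  subst hc₀
  rw [map_zero, zero_add] at hlin
  have hl : ∀ i, (![l₀, l₁] : Fin 2 → F) i = 0 := fun i => by
    by_contra hne
    refine (mem_maximalIdeal _).1 (coeff_mem_of_sum_mem_sq ht he (fun i => algebraMap F B ((![l₀, l₁] : Fin 2 → F) i))
      (by simpa [Fin.sum_univ_two] using hlin) i) ((IsUnit.mk0 _ hne).map _)
  obtain rfl : l₀ = 0 := hl 0
  obtain rfl : l₁ = 0 := hl 1
  simp only [map_zero, zero_mul, zero_add, add_zero] at hlow h₂ h₃
  refine ⟨a, b, c, hlow, ?_, ?_⟩
  · convert add_mem (Ideal.pow_le_pow_right (by norm_num : 2 ≤ 3) (hzg 0)) h₂ using 1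
    show _ = z 0 - aeval t (pderiv 0 g) + _
    ring
  · convert add_mem (Ideal.pow_le_pow_right (by norm_num : 2 ≤ 3) (hzg 1)) h₃ using 1
    show _ = z 1 - aeval t (pderiv 1 g) + _
    ring

/-- a member with invertible discriminant -/
theorem exists_nondeg_quad (t : Fin 2 → B) (ht : Ideal.span (Set.range t) = maximalIdeal B)
    (hF : Fitt.ideal B Ω[B⁄F] 1 = maximalIdeal B) :
    ∃ a b c : F, 4 * a * c - b ^ 2 ≠ 0 ∧
      algebraMap F B a * t 0 ^ 2 + algebraMap F B b * (t 0 * t 1) + algebraMap F B c * t 1 ^ 2 ∈ maximalIdeal B ^ 3 := by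
  classical
  by_contra hno
  push Not at hno
  have he := finrank_eq_two_of_fitt_max hres hF
  have htm : ∀ i, t i ∈ maximalIdeal B := fun i => ht ▸ Ideal.subset_span ⟨i, rfl⟩
  let Good : F → F → F → Prop := fun a b c =>
    algebraMap F B a * t 0 ^ 2 + algebraMap F B b * (t 0 * t 1) + algebraMap F B c * t 1 ^ 2 ∈ maximalIdeal B ^ 3
  have hdeg : ∀ a b c, Good a b c → 4 * a * c - b ^ 2 = 0 := fun a b c h => by_contra fun h' => hno a b c h' h
  have hadd : ∀ a b c a' b' c', Good a b c → Good a' b' c' → Good (a + a') (b + b') (c + c') :=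
    fun a b c a' b' c' h h' => by
      show _ ∈ _
      convert add_mem h h' using 1
      simp only [map_add]
      ring
  -- all linear forms of partials lie on one line
  obtain ⟨l, hl⟩ : ∃ l : B, l ∈ maximalIdeal B ∧ ∀ a b c, Good a b c →
      2 * algebraMap F B a * t 0 + algebraMap F B b * t 1 ∈ Ideal.span {l} ∧
      algebraMap F B b * t 0 + 2 * algebraMap F B c * t 1 ∈ Ideal.span {l} := by
    by_cases h2 : (2 : F) = 0
    · refine ⟨0, zero_mem _, fun a b c h => ?_⟩
      have hb : b = 0 := by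
        have := hdeg a b c h
        rw [show (4 : F) = 2 * 2 by norm_num, h2] at this
        simpa using this
      have h2' : (2 : B) = 0 := by rw [← map_ofNat (algebraMap F B) 2, h2, map_zero]
      simp [hb, h2']
    by_cases hA : ∃ a b c, Good a b c ∧ a ≠ 0
    · obtain ⟨a₀, b₀, c₀, h₀, ha₀⟩ := hA
      refine ⟨algebraMap F B (2 * a₀) * t 0 + algebraMap F B b₀ * t 1,
        add_mem (Ideal.mul_mem_left _ _ (htm 0)) (Ideal.mul_mem_left _ _ (htm 1)), fun a b c h => ?_⟩
      have e0 := hdeg _ _ _ h₀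
      have e1 := hdeg _ _ _ h
      have e2 := hdeg _ _ _ (hadd _ _ _ _ _ _ h₀ h)
      have hb : (b * a₀ - a * b₀) ^ 2 = 0 := by
        linear_combination (-(a₀ ^ 2)) * e1 - a ^ 2 * e0 + a * a₀ * (e2 - e0 - e1)
      have hb' : b * a₀ = a * b₀ := sub_eq_zero.1 ((pow_eq_zero_iff two_ne_zero).1 hb)
      have hc : b * b₀ = 4 * a₀ * c := mul_left_cancel₀ ha₀ (by
        linear_combination (-a₀) * (e2 - e0 - e1) + a * e0 - b₀ * hb')
      have k1 : a / a₀ * (2 * a₀) = 2 * a := by field_simp
      have k2 : a / a₀ * b₀ = b := by rw [div_mul_eq_mul_div, ← hb', mul_div_assoc, div_self ha₀, mul_one]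
      have k3 : b / (2 * a₀) * (2 * a₀) = b := div_mul_cancel₀ b (mul_ne_zero h2 ha₀)
      have k4 : b / (2 * a₀) * b₀ = 2 * c := by
        rw [div_mul_eq_mul_div, hc, div_eq_iff (mul_ne_zero h2 ha₀)]
        ring
      refine ⟨Ideal.mem_span_singleton'.2 ⟨algebraMap F B (a / a₀), ?_⟩,
        Ideal.mem_span_singleton'.2 ⟨algebraMap F B (b / (2 * a₀)), ?_⟩⟩
      · rw [mul_add, ← mul_assoc, ← mul_assoc, ← map_mul, ← map_mul, k1, k2, map_mul, map_ofNat]
      · rw [mul_add, ← mul_assoc, ← mul_assoc, ← map_mul, ← map_mul, k3, k4, map_mul, map_ofNat]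
    · push Not at hA
      refine ⟨t 1, htm 1, fun a b c h => ?_⟩
      have ha := hA a b c h
      have hb : b = 0 := by have := hdeg a b c h; rw [ha] at this; simpa using this
      simp only [ha, hb, map_zero, mul_zero, zero_mul, zero_add, add_zero]
      exact ⟨zero_mem _, Ideal.mem_span_singleton'.2 ⟨_, rfl⟩⟩
  -- the maximal ideal would be principal
  have hle : maximalIdeal B ≤ Ideal.span {l} ⊔ maximalIdeal B ^ 2 := by
    refine hF.ge.trans ?_
    rw [Groth.L13.Fitting.ideal_eq_tup _ (span_D_gens hres ht), Groth.L13.Fitting.tup_eq_minors]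
    refine Ideal.span_le.2 ?_
    rintro _ ⟨z, e', hz, rfl⟩
    rw [SetLike.mem_coe, Matrix.det_fin_one, Matrix.of_apply]
    obtain ⟨a, b, c, hq, h₀, h₁⟩ := exists_quad_of_relation hres t ht he (z 0) (hz 0)
    obtain ⟨hp, hq'⟩ := hl.2 a b c hq
    rcases Fin.exists_fin_two.1 (⟨e' 0, rfl⟩ : ∃ i, e' 0 = i) with h | h <;> rw [h]
    · rw [show z 0 0 = (2 * algebraMap F B a * t 0 + algebraMap F B b * t 1) +
        (z 0 0 - (2 * algebraMap F B a * t 0 + algebraMap F B b * t 1)) by ring]
      exact Submodule.add_mem_sup hp h₀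
    · rw [show z 0 1 = (algebraMap F B b * t 0 + 2 * algebraMap F B c * t 1) +
        (z 0 1 - (algebraMap F B b * t 0 + 2 * algebraMap F B c * t 1)) by ring]
      exact Submodule.add_mem_sup hq' h₁
  have hp : (maximalIdeal B).IsPrincipal := ⟨l, le_antisymm
    (Submodule.le_of_le_smul_of_le_jacobson_bot (IsNoetherian.noetherian _) (IsLocalRing.maximalIdeal_le_jacobson ⊥)
      (by rw [Ideal.smul_eq_mul, ← pow_two]; exact hle)) ((Submodule.span_singleton_le_iff_mem _ _).2 hl.1)⟩
  have := finrank_cotangentSpace_le_one_iff.2 hp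
  omega

theorem isOrdDoublePt_of_fitt_max [IsAlgClosed F] [IsReduced B] (hF : Fitt.ideal B Ω[B⁄F] 1 = maximalIdeal B) :
    Curv2.IsOrdDoublePt F B := by
  obtain ⟨t₀, ht₀⟩ := exists_min_gens (B := B)
  have he := finrank_eq_two_of_fitt_max hres hF
  let t : Fin 2 → B := fun i => t₀ (Fin.cast he.symm i)
  have ht : Ideal.span (Set.range t) = maximalIdeal B := by
    rw [← ht₀]
    congr 1
    exact (finCongr he.symm).surjective.range_comp t₀
  obtain ⟨a, b, c, hD, hq⟩ := exists_nondeg_quad hres t ht hF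
  have hbij : Function.Bijective (algebraMap F (ResidueField B)) := ⟨RingHom.injective _, fun z => by
    obtain ⟨w, rfl⟩ := residue_surjective z
    obtain ⟨r, hr⟩ := hres w
    refine ⟨r, ?_⟩
    rw [← residue_eq_zero_iff, map_sub, sub_eq_zero] at hr
    exact hr.symm⟩
  haveI hsep : Algebra.IsSeparable F (ResidueField B) := ⟨fun z => by
    obtain ⟨r, rfl⟩ := hbij.2 z
    exact isSeparable_algebraMap r⟩
  have hgen : Ideal.span {t 0, t 1} ⊔ maximalIdeal B ^ 2 = maximalIdeal B := by
    rw [show ({t 0, t 1} : Set B) = Set.range t from by ext w; simp [Fin.exists_fin_two, eq_comm], ht]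
    exact sup_eq_left.2 (Ideal.pow_le_self two_ne_zero)
  obtain ⟨-, a', b', c', hD', e, he'⟩ := (Groth.Agent.S1631.result F B).1 ⟨hsep, inferInstance, he, t 0, t 1,
    algebraMap F B a, algebraMap F B b, algebraMap F B c, ht ▸ Ideal.subset_span ⟨0, rfl⟩,
    ht ▸ Ideal.subset_span ⟨1, rfl⟩, hgen, fun h => by
      rw [residue_eq_zero_iff] at h
      refine (mem_maximalIdeal _).1 h ?_
      convert (IsUnit.mk0 _ hD).map (algebraMap F B) using 1
      simp [map_ofNat], by rw [mul_assoc (algebraMap F B b)]; exact hq⟩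
  exact Groth.L21.Nodal.isOrdDoublePt_of_completion_quad (A := B) (B := B) (k := F) (F := F)
    (Ideal.map_id _) (fun _ => rfl) hres a' b' c' hD' e he'

end Groth.L05.SingLocus
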