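import Groth.Agent.L05.SingLocus.Main
import Groth.Agent.L05.SingLocus.Odp
import Groth.Agent.L05.SingLocus.CIRed
import Groth.Agent.S8872
import Groth.Agent.S9386
import Groth.Agent.L02.Hilb.Base
import Groth.Agent.L19.OmegaSh.DiffCompat
import Groth.Agent.L19.OmegaSh.Universal
import Groth.Agent.L21.Nodal.BaseChange
import Groth.Agent.L21.Nodal.ClosedSub
import Groth.Agent.L21.Nodal.QuadNode
import Groth.Agent.L21.Nodal.Reduced
import Groth.Agent.L23.QFDescent
import Groth.Agent.L01.Regular
import Mathlib.RingTheory.Unramified.LocalRing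
import Mathlib.RingTheory.Etale.Kaehler

/-! Curves with unramified singular scheme and complete intersection local rings are at worst nodal. -/

set_option autoImplicit false
set_option linter.style.haveILetI false
set_option backward.isDefEq.respectTransparency.types false
set_option backward.isDefEq.respectTransparency false
set_option maxHeartbeats 1000000

universe u

open CategoryTheory CategoryTheory.Limits AlgebraicGeometry TopologicalSpace IsLocalRing

noncomputable section

namespace Groth.L05.SingLocus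

open Groth.L21.Nodal

/-- the singular scheme commutes with base change -/
theorem sheafIdeal_omega_comap {X S X' S' : Scheme.{u}} {f : X ⟶ S} {g : S' ⟶ S} {g' : X' ⟶ X} {f' : X' ⟶ S'}
    (sq : IsPullback g' f' f g) [QuasiSeparated f] [QuasiSeparated f'] [LocallyOfFiniteType f] (r : ℕ) :
    (Fitt.sheafIdeal (Omega.sheaf f) r).comap g' = Fitt.sheafIdeal (Omega.sheaf f') r := by
  have hcoh := Groth.L15.OmegaCoh.isCoh_omega f
  rw [Groth.Agent.S8872.result g' _ hcoh.1 hcoh.2]
  obtain ⟨c, hc, -⟩ := Groth.L19.OmegaSh.existsUnique_diffCompat g' g sq.w.symm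
    (Groth.L19.OmegaSh.isUniversal_dOmega (f := f)) (_root_.OmegaSh.dOmega f')
  haveI := Groth.Agent.S9386.result f g g' f' sq _ _ (Groth.L19.OmegaSh.isUniversal_dOmega (f := f)) _ _
    (Groth.L19.OmegaSh.isUniversal_dOmega (f := f')) c hc
  exact sheafIdeal_congr (asIso c) r

theorem formallyUnramified_sing_of_isPullback {X S X' S' : Scheme.{u}} {f : X ⟶ S} {g : S' ⟶ S} {g' : X' ⟶ X}
    {f' : X' ⟶ S'} (sq : IsPullback g' f' f g) [QuasiSeparated f] [QuasiSeparated f'] [LocallyOfFiniteType f]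
    (h : FormallyUnramified ((Fitt.sheafIdeal (Omega.sheaf f) 1).subschemeι ≫ f)) :
    FormallyUnramified ((Fitt.sheafIdeal (Omega.sheaf f') 1).subschemeι ≫ f') := by
  rw [← sheafIdeal_omega_comap sq 1]
  exact MorphismProperty.of_isPullback (Groth.L02.Hilb.isPullback_comap sq _) h

variable {F : Type u} [Field F] {Y : Scheme.{u}} (q : Y ⟶ Spec (CommRingCat.of F)) [LocallyOfFiniteType q]
  [QuasiSeparated q]

/-- the points of an unramified singular scheme are closed -/
theorem isClosed_of_mem_support (hu : FormallyUnramified ((Fitt.sheafIdeal (Omega.sheaf q) 1).subschemeι ≫ q))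
    (z : Y) (hz : z ∈ (Fitt.sheafIdeal (Omega.sheaf q) 1).support) : IsClosed ({z} : Set Y) := by
  set I := Fitt.sheafIdeal (Omega.sheaf q) 1
  haveI := hu
  haveI := Groth.L23.locallyQuasiFinite_of_unramified (I.subschemeι ≫ q)
  haveI : DiscreteTopology I.subscheme := by
    rw [← isDiscrete_univ_iff]
    convert (I.subschemeι ≫ q).isDiscrete_preimage_singleton (IsLocalRing.closedPoint F)
    exact (Set.eq_univ_of_forall fun w => Subsingleton.elim _ _).symm
  obtain ⟨w, rfl⟩ : z ∈ Set.range I.subschemeι := by rw [I.range_subschemeι]; exact hz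
  have := I.subschemeι.isClosedEmbedding.isClosedMap _ (isClosed_discrete {w})
  rwa [Set.image_singleton] at this

/-- the first Fitting ideal of the differentials at a closed point -/
theorem fitt_stalk (hu : FormallyUnramified ((Fitt.sheafIdeal (Omega.sheaf q) 1).subschemeι ≫ q))
    (z : Y) :
    letI : Y.Over (Spec (CommRingCat.of F)) := ⟨q⟩
    letI := Curv2.stalkAlgebra F Y z
    Algebra.EssFiniteType F (Y.presheaf.stalk z) ∧
      (z ∉ (Fitt.sheafIdeal (Omega.sheaf q) 1).support →
        Fitt.ideal (Y.presheaf.stalk z) Ω[Y.presheaf.stalk z⁄F] 1 = ⊤) ∧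
      (z ∈ (Fitt.sheafIdeal (Omega.sheaf q) 1).support →
        Fitt.ideal (Y.presheaf.stalk z) Ω[Y.presheaf.stalk z⁄F] 1 = maximalIdeal _) := by
  letI : Y.Over (Spec (CommRingCat.of F)) := ⟨q⟩
  letI := Curv2.stalkAlgebra F Y z
  set I := Fitt.sheafIdeal (Omega.sheaf q) 1 with hI
  have hcoh := Groth.L15.OmegaCoh.isCoh_omega q
  haveI := hcoh.1
  obtain ⟨W, hW, hzW, -⟩ := exists_isAffineOpen_mem_and_subset (x := z) (U := ⊤) trivial
  let R := Γ(Spec (CommRingCat.of F), ⊤)
  let A := Γ(Y, W)
  let B := Y.presheaf.stalk z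
  letI : Algebra F R := (Scheme.ΓSpecIso (CommRingCat.of F)).inv.hom.toAlgebra
  letI : Algebra R A := (q.appLE ⊤ W le_top).hom.toAlgebra
  letI : Algebra F A := ((q.appLE ⊤ W le_top).hom.comp (algebraMap F R)).toAlgebra
  haveI : IsScalarTower F R A := IsScalarTower.of_algebraMap_eq' rfl
  haveI : Algebra.FiniteType R A :=
    RingHom.finiteType_algebraMap.mp (q.finiteType_appLE (isAffineOpen_top _) hW le_top)
  have hsurjR : Function.Surjective (algebraMap F R) :=
    (ConcreteCategory.bijective_of_isIso (Scheme.ΓSpecIso (CommRingCat.of F)).inv).2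
  haveI : Algebra.FiniteType F R := Algebra.FiniteType.of_surjective (Algebra.ofId F R) hsurjR
  haveI : Algebra.FiniteType F A := Algebra.FiniteType.trans (inferInstance : Algebra.FiniteType F R) inferInstance
  haveI : Algebra.FormallyUnramified F R := Algebra.FormallyUnramified.of_surjective (Algebra.ofId F R) hsurjR
  letI := Y.presheaf.algebra_section_stalk (⟨z, hzW⟩ : W)
  haveI : IsLocalization.AtPrime B (hW.primeIdealOf ⟨z, hzW⟩).asIdeal := hW.isLocalization_stalk ⟨z, hzW⟩
  haveI : IsScalarTower F A B := IsScalarTower.of_algebraMap_eq' (by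
    show (Y.presheaf.germ ⊤ z trivial).hom.comp (Coh.toGlobal q) =
      (Y.presheaf.germ W z hzW).hom.comp ((q.appLE ⊤ W le_top).hom.comp (algebraMap F R))
    refine RingHom.ext fun a => ?_
    show Y.presheaf.germ ⊤ z trivial (q.appTop _) = Y.presheaf.germ W z hzW (q.appLE ⊤ W le_top _)
    simp [Scheme.Hom.appLE, Scheme.Hom.appTop, TopCat.Presheaf.germ_res_apply]
    rfl)
  haveI : Algebra.EssFiniteType A B := .of_isLocalization _ (hW.primeIdealOf ⟨z, hzW⟩).asIdeal.primeCompl
  haveI hess : Algebra.EssFiniteType F B := Algebra.EssFiniteType.comp F A B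
  haveI : Algebra.FormallyEtale A B :=
    Algebra.FormallyEtale.of_isLocalization (hW.primeIdealOf ⟨z, hzW⟩).asIdeal.primeCompl
  -- the ideal on the chart
  obtain ⟨es⟩ := Groth.L15.OmegaCoh.exists_sections_equiv q hW (isAffineOpen_top _) (le_top : W ≤ q ⁻¹ᵁ ⊤)
  obtain ⟨e₀⟩ := nonempty_kaehler_equiv F R A
  have hideal : I.ideal ⟨W, hW⟩ = Fitt.ideal A Ω[A⁄F] 1 := by
    rw [hI, Groth.L15.FittSheaf.sheafIdeal_ideal _ hcoh.2]
    exact (Groth.L13.Fitting.ideal_congr (e₀.trans es) 1).symm
  have hB : Fitt.ideal B Ω[B⁄F] 1 = (I.ideal ⟨W, hW⟩).map (algebraMap A B) := by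
    rw [hideal, ← Groth.L13.Fitting.ideal_baseChange,
      Groth.L13.Fitting.ideal_congr (KaehlerDifferential.tensorKaehlerEquivOfFormallyEtale F A B) 1]
  have hmem : z ∈ I.support ↔ I.ideal ⟨W, hW⟩ ≤ (hW.primeIdealOf ⟨z, hzW⟩).asIdeal := by
    have := Groth.L15.FittSheaf.notMem_support_iff (Omega.sheaf q) hcoh.2 1 (U := ⟨W, hW⟩) hzW
    rw [← Groth.L15.FittSheaf.sheafIdeal_ideal _ hcoh.2, ← hI] at this
    exact not_iff_not.1 this
  refine ⟨hess, fun hz => ?_, fun hz => ?_⟩
  · obtain ⟨a, ha, ha'⟩ := SetLike.not_le_iff_exists.1 (fun h => hz (hmem.2 h))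
    rw [hB]
    exact Ideal.eq_top_of_isUnit_mem _ (Ideal.mem_map_of_mem _ ha) (IsLocalization.map_units B (⟨a, ha'⟩ :
      (hW.primeIdealOf ⟨z, hzW⟩).asIdeal.primeCompl))
  · rw [hB]
    set J := (I.ideal ⟨W, hW⟩).map (algebraMap A B) with hJ
    have hJm : J ≤ maximalIdeal B := by
      rw [← IsLocalization.AtPrime.map_eq_maximalIdeal (hW.primeIdealOf ⟨z, hzW⟩).asIdeal B]
      exact Ideal.map_mono (hmem.1 hz)
    -- the chart of the singular scheme is unramified
    have hAI : Algebra.FormallyUnramified F (A ⧸ I.ideal ⟨W, hW⟩) := by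
      have h := hu.formallyUnramified_appLE (isAffineOpen_top _) (hW.preimage I.subschemeι)
        (show I.subschemeι ⁻¹ᵁ W ≤ (I.subschemeι ≫ q) ⁻¹ᵁ ⊤ from le_top)
      have happ : (I.subschemeι ≫ q).appLE ⊤ (I.subschemeι ⁻¹ᵁ W) le_top =
          q.appLE ⊤ W le_top ≫ CommRingCat.ofHom (Ideal.Quotient.mk (I.ideal ⟨W, hW⟩)) ≫
            (I.subschemeObjIso ⟨W, hW⟩).inv := by
        rw [← Scheme.IdealSheafData.subschemeι_app, Scheme.Hom.app_eq_appLE, Scheme.Hom.appLE_comp_appLE]
      rw [happ, ← Category.assoc] at h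
      have h2 := RingHom.FormallyUnramified.respectsIso.1 _ (I.subschemeObjIso ⟨W, hW⟩).commRingCatIsoToRingEquiv h
      have h3 : (q.appLE ⊤ W le_top ≫ CommRingCat.ofHom (Ideal.Quotient.mk (I.ideal ⟨W, hW⟩))).hom.FormallyUnramified := by
        rw [← Category.comp_id (q.appLE ⊤ W le_top ≫ CommRingCat.ofHom _), ← (I.subschemeObjIso ⟨W, hW⟩).inv_hom_id,
          ← Category.assoc]
        exact h2
      haveI : Algebra.FormallyUnramified R (A ⧸ I.ideal ⟨W, hW⟩) := RingHom.formallyUnramified_algebraMap.1 h3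
      exact Algebra.FormallyUnramified.comp F R _
    letI : Algebra (A ⧸ I.ideal ⟨W, hW⟩) (B ⧸ J) := (Ideal.quotientMap J (algebraMap A B) Ideal.le_comap_map).toAlgebra
    haveI : IsScalarTower F (A ⧸ I.ideal ⟨W, hW⟩) (B ⧸ J) := IsScalarTower.of_algebraMap_eq' (RingHom.ext fun r => by
      show Ideal.Quotient.mk J (algebraMap F B r) = Ideal.Quotient.mk J (algebraMap A B (algebraMap F A r))
      rw [← IsScalarTower.algebraMap_apply])
    haveI : Algebra.FormallyUnramified (A ⧸ I.ideal ⟨W, hW⟩) (B ⧸ J) := by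
      letI : Algebra A (B ⧸ J) := ((Ideal.Quotient.mk J).comp (algebraMap A B)).toAlgebra
      haveI : IsScalarTower A (A ⧸ I.ideal ⟨W, hW⟩) (B ⧸ J) := IsScalarTower.of_algebraMap_eq' rfl
      haveI : IsScalarTower A B (B ⧸ J) := IsScalarTower.of_algebraMap_eq' rfl
      haveI : Algebra.FormallyUnramified B (B ⧸ J) :=
        Algebra.FormallyUnramified.of_surjective (Algebra.ofId B (B ⧸ J)) Ideal.Quotient.mk_surjective
      haveI : Algebra.FormallyUnramified A (B ⧸ J) := Algebra.FormallyUnramified.comp A B (B ⧸ J)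
      exact Algebra.FormallyUnramified.of_restrictScalars A _ _
    haveI := hAI
    haveI : Algebra.FormallyUnramified F (B ⧸ J) := Algebra.FormallyUnramified.comp F (A ⧸ I.ideal ⟨W, hW⟩) (B ⧸ J)
    haveI : Nontrivial (B ⧸ J) :=
      Ideal.Quotient.nontrivial_iff.2 (ne_top_of_le_ne_top (maximalIdeal.isMaximal B).ne_top hJm)
    haveI : IsLocalRing (B ⧸ J) := IsLocalRing.of_surjective' (Ideal.Quotient.mk J) Ideal.Quotient.mk_surjective
    haveI : Algebra.EssFiniteType F (B ⧸ J) := Algebra.EssFiniteType.comp F B (B ⧸ J)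
    haveI : IsLocalHom (algebraMap F (B ⧸ J)) := ⟨fun a ha => IsUnit.mk0 a fun h0 => by simp [h0] at ha⟩
    have hfield := (Algebra.FormallyUnramified.iff_map_maximalIdeal_eq (R := F) (S := B ⧸ J)).1 inferInstance |>.2
    rw [(IsLocalRing.isField_iff_maximalIdeal_eq.1 (Field.toIsField F)), Ideal.map_bot,
      ← IsLocalRing.map_maximalIdeal_of_surjective (Ideal.Quotient.mk J) Ideal.Quotient.mk_surjective] at hfield
    exact le_antisymm hJm ((Ideal.map_eq_bot_iff_le_ker _).1 hfield.symm |>.trans_eq Ideal.mk_ker)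

theorem exists_coeff_stalk (z : Y) (hz : IsClosed ({z} : Set Y)) :
    letI : Y.Over (Spec (CommRingCat.of F)) := ⟨q⟩
    ∀ [IsAlgClosed F] (b : Y.presheaf.stalk z), ∃ c, b - Curv2.stalkMap F Y z c ∈ maximalIdeal _ := by
  letI : Y.Over (Spec (CommRingCat.of F)) := ⟨q⟩
  intro _ b
  haveI : LocallyOfFiniteType (Y ↘ Spec (CommRingCat.of F)) := ‹LocallyOfFiniteType q›
  obtain ⟨c, hc⟩ := resMap_surjective (k := F) z hz (Y.residue z b)
  refine ⟨c, ?_⟩
  rw [← IsLocalRing.ker_residue, RingHom.mem_ker, map_sub, sub_eq_zero]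
  exact hc.symm

omit [LocallyOfFiniteType q] [QuasiSeparated q] in
theorem one_le_ringKrullDim_stalk (hcl : CurveLike Y) (z : Y) (hz : IsClosed ({z} : Set Y)) :
    (1 : WithBot ℕ∞) ≤ ringKrullDim (Y.presheaf.stalk z) := by
  obtain ⟨y, hyne, hy⟩ := hcl.2 z hz
  obtain ⟨c, hc⟩ : y ∈ Set.range (Y.fromSpecStalk z) := by rw [Scheme.range_fromSpecStalk]; exact hy
  have hne : c ≠ IsLocalRing.closedPoint (Y.presheaf.stalk z) := fun h => hyne (by
    rw [← hc, h, Scheme.fromSpecStalk_closedPoint])
  let c' : PrimeSpectrum (Y.presheaf.stalk z) := c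
  let m' : PrimeSpectrum (Y.presheaf.stalk z) := IsLocalRing.closedPoint _
  have hlt : c' < m' := by
    rw [← PrimeSpectrum.asIdeal_lt_asIdeal]
    exact lt_of_le_of_ne (le_maximalIdeal c'.2.ne_top) fun h => hne (PrimeSpectrum.ext h)
  have h := Order.LTSeries.length_le_krullDim (α := PrimeSpectrum (Y.presheaf.stalk z))
    ((RelSeries.singleton _ c').snoc m' (by rw [RelSeries.last_singleton]; exact hlt))
  simpa [ringKrullDim] using h

theorem isRegular_of_notMem [IsAlgClosed F] (hcl : CurveLike Y)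
    (hu : FormallyUnramified ((Fitt.sheafIdeal (Omega.sheaf q) 1).subschemeι ≫ q))
    (z : Y) (hz : IsClosed ({z} : Set Y)) (hzZ : z ∉ (Fitt.sheafIdeal (Omega.sheaf q) 1).support) :
    IsRegularLocalRing (Y.presheaf.stalk z) := by
  letI : Y.Over (Spec (CommRingCat.of F)) := ⟨q⟩
  letI := Curv2.stalkAlgebra F Y z
  haveI : IsLocallyNoetherian Y := LocallyOfFiniteType.isLocallyNoetherian q
  obtain ⟨h₁, h₂, -⟩ := fitt_stalk q hu z
  haveI := h₁
  exact isRegularLocalRing_of_fitt_top (exists_coeff_stalk q z hz) (h₂ hzZ) (one_le_ringKrullDim_stalk hcl z hz)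

theorem smooth_or_odp [IsAlgClosed F] (hcl : CurveLike Y)
    (hu : FormallyUnramified ((Fitt.sheafIdeal (Omega.sheaf q) 1).subschemeι ≫ q))
    (hci : ∀ z : Y, Pi1.IsCompleteIntersection (Y.presheaf.stalk z))
    (z : Y) (hz : IsClosed ({z} : Set Y)) :
    (∃ U : Y.Opens, z ∈ U ∧ Smooth (U.ι ≫ q)) ∨ OdpAt F q z := by
  letI : Y.Over (Spec (CommRingCat.of F)) := ⟨q⟩
  letI := Curv2.stalkAlgebra F Y z
  haveI : LocallyOfFiniteType (Y ↘ Spec (CommRingCat.of F)) := ‹LocallyOfFiniteType q›
  haveI : IsLocallyNoetherian Y := LocallyOfFiniteType.isLocallyNoetherian q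
  haveI : JacobsonSpace Y := LocallyOfFiniteType.jacobsonSpace q
  set S := (Fitt.sheafIdeal (Omega.sheaf q) 1).support with hS
  by_cases hzZ : z ∈ S
  · right
    obtain ⟨h₁, -, h₃⟩ := fitt_stalk q hu z
    haveI := h₁
    haveI : _root_.IsReduced (Y.presheaf.stalk z) := by
      refine isReduced_of_ci (hci z) (one_le_ringKrullDim_stalk hcl z hz) fun p _ hp => ?_
      let c : PrimeSpectrum (Y.presheaf.stalk z) := ⟨p, inferInstance⟩
      let y := Y.fromSpecStalk z c
      have hyz : y ⤳ z := by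
        have := Set.mem_range_self (f := Y.fromSpecStalk z) c
        rwa [Scheme.range_fromSpecStalk] at this
      have hyne : y ≠ z := fun h => hp (congrArg PrimeSpectrum.asIdeal
        ((Y.fromSpecStalk z).isEmbedding.injective (h.trans (Scheme.fromSpecStalk_closedPoint).symm) :
          c = IsLocalRing.closedPoint _))
      have hyc : ¬ IsClosed ({y} : Set Y) := fun h =>
        hyne (by have := hyz.mem_closed h (Set.mem_singleton y); exact (Set.mem_singleton_iff.1 this).symm)
      have hyS : y ∉ S := fun h => hyc (isClosed_of_mem_support q hu y h)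
      obtain ⟨w, hw, hwc⟩ : ∃ w ∈ (closure {y} \ (S : Set Y)), w ∈ closedPoints Y := by
        have := (nonempty_inter_closedPoints (show (closure {y} \ (S : Set Y)).Nonempty from
          ⟨y, subset_closure (Set.mem_singleton y), hyS⟩)
          ⟨(S : Set Y)ᶜ, closure {y}, S.isClosed.isOpen_compl, isClosed_closure, by rw [Set.sdiff_eq, Set.inter_comm]⟩)
        exact this
      haveI := isRegular_of_notMem q hcl hu w hwc hw.2
      haveI := Groth.L01.isDomain_of_regular (Y.presheaf.stalk w)
      haveI : _root_.IsReduced (Y.presheaf.stalk y) :=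
        isReduced_stalk_of_specializes (specializes_iff_mem_closure.2 hw.1)
      obtain ⟨W, hW, hzW, -⟩ := exists_isAffineOpen_mem_and_subset (x := z) (U := ⊤) trivial
      have hyW : y ∈ W := hyz.mem_open W.2 hzW
      letI := Y.presheaf.algebra_section_stalk (⟨z, hzW⟩ : W)
      haveI := hW.isLocalization_stalk ⟨z, hzW⟩
      letI := Y.presheaf.algebra_section_stalk (⟨y, hyW⟩ : W)
      haveI := hW.isLocalization_stalk ⟨y, hyW⟩
      haveI := IsLocalization.isLocalization_isLocalization_atPrime_isLocalization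
        (M := (hW.primeIdealOf ⟨z, hzW⟩).asIdeal.primeCompl) (Localization.AtPrime p) p
      have hpy : (hW.primeIdealOf ⟨y, hyW⟩).asIdeal = p.comap (algebraMap Γ(Y, W) (Y.presheaf.stalk z)) := by
        have h : hW.fromSpec (Spec.map (Y.presheaf.germ W z hzW) c) = y := by
          show _ = Y.fromSpecStalk z c
          rw [← hW.fromSpecStalk_eq_fromSpecStalk hzW]
          rfl
        have h' := hW.fromSpec.isOpenEmbedding.injective (h.trans (hW.fromSpec_primeIdealOf ⟨y, hyW⟩).symm)
        exact (congrArg PrimeSpectrum.asIdeal h').symm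
      haveI : IsLocalization.AtPrime (Y.presheaf.stalk y) (p.comap (algebraMap Γ(Y, W) (Y.presheaf.stalk z))) := by
        show IsLocalization _ _
        simp only [← hpy]
        infer_instance
      exact isReduced_of_injective
        (IsLocalization.algEquiv (p.comap (algebraMap Γ(Y, W) (Y.presheaf.stalk z))).primeCompl
          (Localization.AtPrime p) (Y.presheaf.stalk y)).toRingEquiv.toRingHom (RingEquiv.injective _)
    exact isOrdDoublePt_of_fitt_max (exists_coeff_stalk q z hz) (h₃ hzZ)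
  · left
    haveI := isRegular_of_notMem q hcl hu z hz hzZ
    haveI : LocallyOfFinitePresentation (Y ↘ Spec (CommRingCat.of F)) := inferInstance
    letI : Algebra F (Y.residueField z) := Curv2.resAlgebra F Y z
    have hs : Algebra.IsSeparable F (Y.residueField z) := ⟨fun t => by
      obtain ⟨c, rfl⟩ := resMap_surjective (k := F) z hz t
      exact isSeparable_algebraMap c⟩
    have hm := mem_smoothLocus_of_regular (k := F) z hz hs
    refine ⟨q.smoothLocus, hm, ?_⟩
    rw [← Scheme.Hom.smoothLocus_eq_top_iff, ← Scheme.Hom.preimage_smoothLocus_eq]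
    exact top_le_iff.1 fun w _ => w.2

end Groth.L05.SingLocus
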