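import Groth.Agent.L05.SingLocus.Field
import Groth.Agent.L22.SchemeDim
import Groth.Agent.L22.FibreSemicont
import Groth.Agent.S9365

/-! Nodal families are the syntomic families of curves with unramified singular scheme. -/

set_option autoImplicit false
set_option linter.style.haveILetI false
set_option backward.isDefEq.respectTransparency.types false
set_option backward.isDefEq.respectTransparency false
set_option maxHeartbeats 1000000

universe u

open CategoryTheory CategoryTheory.Limits AlgebraicGeometry TopologicalSpace IsLocalRing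

noncomputable section

namespace Groth.L05.SingLocus

open Groth.L21.Nodal

variable {X S : Scheme.{u}} (f : X ⟶ S)

theorem localFibreDim_eq (x : X) : Dual3.localFibreDim f x = FlatMor.fibreDimAt f x := by
  unfold Dual3.localFibreDim FlatMor.fibreDimAt FlatMor.localDim
  exact iInf_subtype'

theorem localDim_fiber_eq (s : S) (z : f.fiber s) :
    FlatMor.localDim (f.fiber s) z = Dual3.localFibreDim f (f.fiberι s z) := by
  obtain ⟨x, hx⟩ : ∃ x, f.fiberι s z = x := ⟨_, rfl⟩
  rw [hx]
  have hs : f x = s := by
    have : f.fiberι s z ∈ Set.range (f.fiberι s) := ⟨z, rfl⟩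
    rw [f.range_fiberι, hx] at this
    exact this
  subst hs
  rw [localFibreDim_eq]
  have : f.asFiber x = z := (f.fiberι _).isEmbedding.injective ((f.fiberι_asFiber _).trans hx.symm)
  unfold FlatMor.fibreDimAt
  exact congrArg (FlatMor.localDim _) this.symm

theorem components_dim_one [LocallyOfFiniteType f] (h : ∀ x : X, Dual3.localFibreDim f x = 1) (s : S)
    (Z : Set (f.fiber s)) (hZ : Z ∈ irreducibleComponents (f.fiber s : Type u)) : topologicalKrullDim Z = 1 := by
  letI : (f.fiber s).Over (Spec (CommRingCat.of (S.residueField s))) := ⟨f.fiberToSpecResidueField s⟩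
  haveI : LocallyOfFiniteType (f.fiber s ↘ Spec (CommRingCat.of (S.residueField s))) :=
    MorphismProperty.pullback_snd _ _ inferInstance
  obtain ⟨η, hη⟩ := QuasiSober.sober hZ.1 (isClosed_of_mem_irreducibleComponents _ hZ)
  rw [← h (f.fiberι s η), ← localDim_fiber_eq, Groth.L22.FibreSemicont.localDim_eq_iSup (S.residueField s) η,
    ← hη.def]
  refine le_antisymm (le_iSup_of_le (⟨η, specializes_rfl⟩ : {η' : f.fiber s // η' ⤳ η}) le_rfl) (iSup_le fun η' => ?_)
  have hle : Z ⊆ closure {η'.1} := by
    rw [← hη.def]
    exact closure_minimal (Set.singleton_subset_iff.2 η'.2.mem_closure) isClosed_closure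
  have heq : closure {η'.1} = Z := Set.Subset.antisymm (hZ.2 isIrreducible_singleton.closure hle) hle
  rw [heq, hη.def]

theorem isNodalFamily_iff [QuasiSeparated f] :
    Curv2.IsNodalFamily f ↔
      (Synt.IsSyntomicMor f ∧ (∀ x : X, Dual3.localFibreDim f x = 1) ∧
        FormallyUnramified ((Fitt.sheafIdeal (Omega.sheaf f) 1).subschemeι ≫ f)) := by
  constructor
  · intro hf
    haveI := hf.1
    haveI := hf.2.1
    refine ⟨Groth.Agent.S9365.result f fun s => ?_, fun x => ?_, formallyUnramified_fittOne f hf⟩
    · letI : (f.fiber s).Over (Spec (CommRingCat.of (S.residueField s))) := ⟨f.fiberToSpecResidueField s⟩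
      haveI : LocallyOfFiniteType (f.fiber s ↘ Spec (CommRingCat.of (S.residueField s))) :=
        MorphismProperty.pullback_snd _ _ inferInstance
      obtain ⟨hd, hn⟩ := hf.2.2 s
      exact (isSyntomicMor_iff_ci (k := S.residueField s) (f.fiber s ↘ Spec (CommRingCat.of (S.residueField s)))).2
        (ci_of_atWorstNodal ((curveLike_iff _).2 hd) hn)
    · letI : (f.fiber (f x)).Over (Spec (CommRingCat.of (S.residueField (f x)))) :=
        ⟨f.fiberToSpecResidueField (f x)⟩
      haveI : LocallyOfFiniteType (f.fiber (f x) ↘ Spec (CommRingCat.of (S.residueField (f x)))) :=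
        MorphismProperty.pullback_snd _ _ inferInstance
      rw [localFibreDim_eq]
      unfold FlatMor.fibreDimAt
      rw [Groth.L22.FibreSemicont.localDim_eq_iSup (S.residueField (f x)) (f.asFiber x)]
      refine le_antisymm (iSup_le fun η => ?_) ?_
      · rw [← (hf.2.2 _).1 _ (irreducibleComponent_mem_irreducibleComponents η.1)]
        exact Groth.L22.SchemeDim.topologicalKrullDim_mono
          (closure_minimal (Set.singleton_subset_iff.2 mem_irreducibleComponent) isClosed_irreducibleComponent)
      · have hC := irreducibleComponent_mem_irreducibleComponents (f.asFiber x)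
        obtain ⟨η, hη⟩ := QuasiSober.sober hC.1 (isClosed_of_mem_irreducibleComponents _ hC)
        refine le_iSup_of_le ⟨η, hη.specializes mem_irreducibleComponent⟩ ?_
        rw [hη.def]
        exact ((hf.2.2 _).1 _ hC).ge
  · rintro ⟨hs, hdim, hu⟩
    obtain ⟨hflat, hlfp, hci⟩ := (Groth.L07.SyntScheme.isSyntomicMor_iff f).1 hs
    haveI := hflat
    haveI := hlfp
    refine ⟨hflat, hlfp, fun s => ⟨components_dim_one f hdim s, ?_⟩⟩
    letI : (f.fiber s).Over (Spec (CommRingCat.of (S.residueField s))) := ⟨f.fiberToSpecResidueField s⟩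
    haveI : LocallyOfFiniteType (f.fiber s ↘ Spec (CommRingCat.of (S.residueField s))) :=
      MorphismProperty.pullback_snd _ _ inferInstance
    haveI : QuasiSeparated (f.fiber s ↘ Spec (CommRingCat.of (S.residueField s))) :=
      MorphismProperty.pullback_snd _ _ inferInstance
    exact atWorstNodal_of_ci (k := S.residueField s) ((curveLike_iff _).2 (components_dim_one f hdim s))
      (formallyUnramified_sing_of_isPullback (g' := f.fiberι s) (IsPullback.of_hasPullback _ _) hu)
      fun z => (Groth.L07.CIBaseChange.isCI_fiberStalk_iff f _ s z rfl).1 (hci _)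

end Groth.L05.SingLocus
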