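import Groth.Agent.L05.SingLocus.Converse
import Groth.Agent.L21.Nodal.Gorenstein
import Groth.Agent.L21.Nodal.FamilyBaseChange
import Groth.Agent.L07.SyntOverField
import Groth.Agent.L07.SyntLCI
import Groth.Agent.L07.CIFibre
import Groth.Agent.L01.PowSerReg
import Groth.Agent.L08.GrpGorenstein
import Groth.Agent.S2843

/-! At-worst-nodal curves over a field are the syntomic curves with unramified singular scheme. -/

set_option autoImplicit false
set_option linter.style.haveILetI false
set_option backward.isDefEq.respectTransparency.types false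
set_option backward.isDefEq.respectTransparency false
set_option maxHeartbeats 1000000

universe u

open CategoryTheory CategoryTheory.Limits AlgebraicGeometry TopologicalSpace IsLocalRing

noncomputable section

namespace Groth.L05.SingLocus

open Groth.L21.Nodal

theorem isCompleteIntersection_R2 {L A : Type u} [Field L] [CommRing A] [IsLocalRing A]
    [Algebra L A] (h : Curv2.IsOrdDoublePt L A) : Pi1.IsCompleteIntersection A := by
  obtain ⟨e, -⟩ := h
  haveI : IsRegularLocalRing (MvPowerSeries (Fin 2) L) := Groth.L01.PowSerReg.isRegularLocalRing L 2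
  let f : MvPowerSeries (Fin 2) L := MvPowerSeries.X 0 * MvPowerSeries.X 1
  have hf : f ∈ maximalIdeal (MvPowerSeries (Fin 2) L) := by
    rw [IsLocalRing.mem_maximalIdeal, mem_nonunits_iff, MvPowerSeries.isUnit_iff_constantCoeff]
    simp [f]
  have hf0 : f ≠ 0 := by
    refine mul_ne_zero ?_ ?_
    · intro h
      simpa using congrArg (MvPowerSeries.coeff (Finsupp.single (0 : Fin 2) 1)) h
    · intro h
      simpa using congrArg (MvPowerSeries.coeff (Finsupp.single (1 : Fin 2) 1)) h
  refine ⟨MvPowerSeries (Fin 2) L, inferInstance, inferInstance, [f], by simpa using hf, ?_,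
    ⟨e.trans (Ideal.quotEquivOfEq (by congr 1; ext; simp [f]))⟩⟩
  rw [IsLocalRing.isRegular_iff_isWeaklyRegular_of_subset_maximalIdeal (by simpa using hf),
    RingTheory.Sequence.isWeaklyRegular_cons_iff]
  exact ⟨IsSMulRegular.of_ne_zero hf0, RingTheory.Sequence.IsWeaklyRegular.nil _ _⟩

variable {k : Type u} [Field k] {X : Scheme.{u}} [X.Over (Spec (CommRingCat.of k))]
  [LocallyOfFiniteType (X ↘ Spec (CommRingCat.of k))]

theorem ci_of_atWorstNodal (hcl : CurveLike X) (hnod : Curv2.AtWorstNodal k X) (x : X) :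
    Pi1.IsCompleteIntersection (X.presheaf.stalk x) := by
  haveI : IsLocallyNoetherian X := LocallyOfFiniteType.isLocallyNoetherian (X ↘ Spec (CommRingCat.of k))
  have hsm : (∃ U : X.Opens, x ∈ U ∧ Smooth (U.ι ≫ (X ↘ Spec (CommRingCat.of k)))) →
      Pi1.IsCompleteIntersection (X.presheaf.stalk x) := fun ⟨U, hxU, hU⟩ => by
    haveI := regular_of_mem_smoothLocus (k := k) x hxU
    exact Groth.L07.CIFibre.isCompleteIntersection_of_regular _
  by_cases hx : IsClosed ({x} : Set X)
  · rcases hnod x hx with h | h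
    · exact hsm h
    · obtain ⟨-, z, rfl, hz⟩ := (isNode_def k X x).1 h
      letI : (Curv2.bc k X (AlgebraicClosure k)).Over (Spec (CommRingCat.of (AlgebraicClosure k))) :=
        ⟨Curv2.bcSnd k X (AlgebraicClosure k)⟩
      letI := Curv2.stalkAlgebra (AlgebraicClosure k) (Curv2.bc k X (AlgebraicClosure k)) z
      exact (Groth.Agent.S2843.result X _ z).2 (isCompleteIntersection_R2 (L := AlgebraicClosure k) hz)
  · exact hsm (exists_smooth_nhd_of_not_isClosed hcl hnod x hx)

theorem atWorstNodal_of_ci [QuasiSeparated (X ↘ Spec (CommRingCat.of k))] (hcl : CurveLike X)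
    (hu : FormallyUnramified ((Fitt.sheafIdeal (Omega.sheaf (X ↘ Spec (CommRingCat.of k))) 1).subschemeι ≫
      (X ↘ Spec (CommRingCat.of k))))
    (hci : ∀ x : X, Pi1.IsCompleteIntersection (X.presheaf.stalk x)) : Curv2.AtWorstNodal k X := by
  intro x hx
  let i := Curv2.bcFst k X (AlgebraicClosure k)
  let q := Curv2.bcSnd k X (AlgebraicClosure k)
  have sq : IsPullback i q (X ↘ Spec (CommRingCat.of k))
      (Spec.map (CommRingCat.ofHom (algebraMap k (AlgebraicClosure k)))) := IsPullback.of_hasPullback _ _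
  haveI : QuasiSeparated q := MorphismProperty.of_isPullback sq inferInstance
  haveI : LocallyOfFiniteType q := MorphismProperty.of_isPullback sq inferInstance
  letI : (Curv2.bc k X (AlgebraicClosure k)).Over (Spec (CommRingCat.of (AlgebraicClosure k))) := ⟨q⟩
  by_cases h : ∃ z, i z = x ∧ OdpAt (AlgebraicClosure k) q z
  · obtain ⟨z, hz, hodp⟩ := h
    exact Or.inr (isNode_of_odpAt (AlgebraicClosure k) x hx z hz hodp)
  · left
    refine exists_smooth_nhd_of_preimage x fun z hz hsing => ?_
    rcases smooth_or_odp q (curveLike_of_isPullback (K := AlgebraicClosure k) i sq hcl) (formallyUnramified_sing_of_isPullback sq hu)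
      (fun w => (Groth.Agent.S2843.result X _ w).1 (hci _)) z (isClosed_of_bcFst z (hz.symm ▸ hx)) with hU | ho
    · exact hsing hU
    · exact h ⟨z, hz, ho⟩

omit [X.Over (Spec (CommRingCat.of k))] [LocallyOfFiniteType (X ↘ Spec (CommRingCat.of k))] in
theorem isSyntomicMor_iff_ci (p : X ⟶ Spec (CommRingCat.of k)) [LocallyOfFiniteType p] :
    Synt.IsSyntomicMor p ↔ ∀ x : X, Pi1.IsCompleteIntersection (X.presheaf.stalk x) :=
  ((Groth.L07.SyntOverField.tfae k X p).out 0 2).trans
    (forall_congr' fun x => Groth.L07.SyntOverField.isCIOver_stalk_iff p x)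

omit [X.Over (Spec (CommRingCat.of k))] [LocallyOfFiniteType (X ↘ Spec (CommRingCat.of k))] in
theorem isSyntomicMor_of_isLCIMor (p : X ⟶ Spec (CommRingCat.of k)) (h : Dual3.IsLCIMor p) :
    Synt.IsSyntomicMor p := fun x => by
  obtain ⟨U, V, e, hx, hl⟩ := h x
  refine ⟨U, V, e, hx, ?_⟩
  letI := (p.appLE V.1 U.1 e).hom.toAlgebra
  haveI := Groth.L07.SyntOverField.flat_over_field p
  haveI : Module.Flat Γ(Spec (CommRingCat.of k), V.1) Γ(X, U.1) := Flat.flat_appLE p V.2 U.2 e
  exact Groth.L07.SyntLCI.isSyntomic_of_flat_isLCI hl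

theorem isNodalFamily_of_atWorstNodal (hcl : CurveLike X) (hnod : Curv2.AtWorstNodal k X) :
    Curv2.IsNodalFamily (X ↘ Spec (CommRingCat.of k)) := by
  refine ⟨Groth.L07.SyntOverField.flat_over_field _, inferInstance, fun s => ?_⟩
  obtain ⟨φ, hφ⟩ := Spec.map_surjective ((Spec (CommRingCat.of k)).fromSpecResidueField s)
  letI : Algebra k ((Spec (CommRingCat.of k)).residueField s) := φ.hom.toAlgebra
  letI : ((X ↘ Spec (CommRingCat.of k)).fiber s).Over (Spec ((Spec (CommRingCat.of k)).residueField s)) :=
    ⟨(X ↘ Spec (CommRingCat.of k)).fiberToSpecResidueField s⟩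
  have hY : IsPullback ((X ↘ Spec (CommRingCat.of k)).fiberι s)
      ((X ↘ Spec (CommRingCat.of k)).fiberToSpecResidueField s) (X ↘ Spec (CommRingCat.of k))
      (Spec.map (CommRingCat.ofHom (algebraMap k ((Spec (CommRingCat.of k)).residueField s)))) := by
    rw [show Spec.map (CommRingCat.ofHom (algebraMap k ((Spec (CommRingCat.of k)).residueField s))) = _ from hφ]
    exact IsPullback.of_hasPullback _ _
  refine ⟨(curveLike_iff _).1 (curveLike_of_isPullback (K := (Spec (CommRingCat.of k)).residueField s) _ hY hcl), ?_⟩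
  exact atWorstNodal_of_isPullback (K := (Spec (CommRingCat.of k)).residueField s) _ hY hcl hnod

end Groth.L05.SingLocus
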