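import Groth.Agent.L21.Nodal.EtaleModel
import Groth.Agent.L13.Fitting.BaseChange
import Mathlib.RingTheory.Etale.Kaehler
import Mathlib.RingTheory.Unramified.Basic
import Mathlib.RingTheory.Kaehler.TensorProduct
import Mathlib.RingTheory.Support
import Mathlib.RingTheory.LocalRing.Module
import Mathlib.LinearAlgebra.Dual.Basis
import Mathlib.RingTheory.Localization.AtPrime.Basic

/-! The first Fitting locus of the differentials of an algebra étale-locally isomorphic to a node. -/

set_option autoImplicit false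
set_option linter.style.haveILetI false
set_option linter.unusedSectionVars false

universe u

open MvPolynomial
open scoped TensorProduct

noncomputable section

namespace Groth.L05.SingLocus

open Groth.L21.Nodal (NodeModel)

variable {C : Type u} [CommRing C] (c : C)

/-- the two coordinates of the node -/
abbrev coord (i : Fin 2) : NodeModel C c := Ideal.Quotient.mk _ (X i)

theorem span_D_coord :
    Submodule.span (NodeModel C c) (Set.range fun i => KaehlerDifferential.D C (NodeModel C c) (coord c i)) = ⊤ := by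
  rw [← top_le_iff, ← KaehlerDifferential.span_range_derivation C (NodeModel C c), Submodule.span_le]
  rintro _ ⟨m, rfl⟩
  obtain ⟨p, rfl⟩ := Ideal.Quotient.mk_surjective m
  induction p using MvPolynomial.induction_on with
  | C a =>
    rw [show Ideal.Quotient.mk _ (MvPolynomial.C a) = algebraMap C (NodeModel C c) a from rfl, Derivation.map_algebraMap]
    exact zero_mem _
  | add p q hp hq => rw [map_add, map_add]; exact add_mem hp hq
  | mul_X p i hp =>
    rw [map_mul, Derivation.leibniz]
    exact add_mem (Submodule.smul_mem _ _ (Submodule.subset_span ⟨i, rfl⟩)) (Submodule.smul_mem _ _ hp)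

theorem coord_mem_fitt (i : Fin 2) : coord c i ∈ Fitt.ideal (NodeModel C c) Ω[NodeModel C c⁄C] 1 := by
  set x : Fin 2 → Ω[NodeModel C c⁄C] := fun i => KaehlerDifferential.D C (NodeModel C c) (coord c i) with hx
  have hrel : coord c 1 • x 0 + coord c 0 • x 1 = 0 := by
    have h0 : coord c 0 * coord c 1 + algebraMap C (NodeModel C c) c = 0 :=
      Ideal.Quotient.eq_zero_iff_mem.2 (Ideal.mem_span_singleton_self _)
    have := congrArg (KaehlerDifferential.D C (NodeModel C c)) h0
    rw [map_add, Derivation.map_algebraMap, add_zero, Derivation.leibniz, map_zero] at this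
    exact (add_comm _ _).trans this
  have key : ∀ a b : NodeModel C c,
      a * coord c 0 - b * coord c 1 ∈ Fitt.ideal (NodeModel C c) Ω[NodeModel C c⁄C] 1 := fun a b => by
    refine Ideal.subset_span ⟨2, x, Matrix.of ![![coord c 1, coord c 0], ![-a, -b]], span_D_coord c, fun i hi => ?_, ?_⟩
    · obtain rfl : i = 0 := Fin.ext (by omega)
      simpa [Fin.sum_univ_two] using hrel
    · rw [Matrix.det_fin_two]
      simp [mul_comm]
      ring
  fin_cases i
  · simpa using key 1 0
  · simpa using neg_mem (key 0 1)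

section Transfer

variable {R E N : Type u} [CommRing R] [CommRing E] [Algebra R E]

/-- differentials do not change along a formally unramified middle ring -/
theorem nonempty_kaehler_equiv (R C' E : Type u) [CommRing R] [CommRing C'] [CommRing E] [Algebra R C'] [Algebra C' E]
    [Algebra R E] [IsScalarTower R C' E] [Algebra.FormallyUnramified R C'] :
    Nonempty (Ω[E⁄R] ≃ₗ[E] Ω[E⁄C']) := by
  let φ : Ω[E⁄R] →ₗ[E] Ω[E⁄C'] := KaehlerDifferential.map R C' E E
  have hs : Function.Surjective φ := KaehlerDifferential.map_surjective R C' E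
  have hi : Function.Injective φ := by
    rw [injective_iff_map_eq_zero]
    intro z hz
    obtain ⟨w, rfl⟩ := (KaehlerDifferential.exact_mapBaseChange_map R C' E z).1 hz
    haveI : Subsingleton Ω[C'⁄R] := inferInstance
    rw [Subsingleton.elim w 0, map_zero]
  exact ⟨LinearEquiv.ofBijective φ ⟨hi, hs⟩⟩

end Transfer

variable {R A E : Type u} [CommRing R] [CommRing A] [CommRing E]
  [Algebra R A] [Algebra A E] [Algebra R E] [IsScalarTower R A E] [Algebra.FormallyEtale A E]
  [Algebra C E] [Algebra (NodeModel C c) E] [IsScalarTower C (NodeModel C c) E]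
  [Algebra.FormallyEtale (NodeModel C c) E] [Algebra.EssFiniteType R A]

theorem coord_mem_map_fitt (C' : Type u) [CommRing C'] [Algebra R C'] [Algebra C C'] [Algebra C' E]
    [IsScalarTower R C' E] [Algebra.FormallyUnramified R C'] [Algebra.FormallyUnramified C C'] [IsScalarTower C C' E] (i : Fin 2) :
    algebraMap (NodeModel C c) E (coord c i) ∈ (Fitt.ideal A Ω[A⁄R] 1).map (algebraMap A E) := by
  obtain ⟨e₁⟩ := nonempty_kaehler_equiv R C' E
  obtain ⟨e₂⟩ := nonempty_kaehler_equiv C C' E
  let eA := KaehlerDifferential.tensorKaehlerEquivOfFormallyEtale R A E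
  let eM := KaehlerDifferential.tensorKaehlerEquivOfFormallyEtale C (NodeModel C c) E
  rw [← Groth.L13.Fitting.ideal_baseChange, Groth.L13.Fitting.ideal_congr ((eA.trans (e₁.trans e₂.symm)).trans eM.symm),
    Groth.L13.Fitting.ideal_baseChange]
  exact Ideal.mem_map_of_mem _ (coord_mem_fitt c i)

/-- the Fitting locus upstairs is unramified over the base -/
theorem formallyUnramified_quotient {R A E : Type u} [CommRing R] [CommRing A] [CommRing E]
    [Algebra R A] [Algebra A E] [Algebra R E] [IsScalarTower R A E] [Algebra.FormallyEtale A E]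
    [Algebra.EssFiniteType R A] {C : Type u} [CommRing C] (c : C) [Algebra C E] [Algebra (NodeModel C c) E]
    [IsScalarTower C (NodeModel C c) E] [Algebra.FormallyEtale (NodeModel C c) E] (C' : Type u) [CommRing C'] [Algebra R C'] [Algebra C C'] [Algebra C' E]
    [IsScalarTower R C' E] [Algebra.FormallyUnramified R C'] [Algebra.FormallyUnramified C C'] [IsScalarTower C C' E] :
    Algebra.FormallyUnramified R (E ⧸ (Fitt.ideal A Ω[A⁄R] 1).map (algebraMap A E)) := by
  set J := (Fitt.ideal A Ω[A⁄R] 1).map (algebraMap A E) with hJ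
  haveI h1 : Algebra.FormallyUnramified (NodeModel C c) (E ⧸ J) := by
    haveI : Algebra.FormallyUnramified E (E ⧸ J) :=
      Algebra.FormallyUnramified.of_surjective (Algebra.ofId E (E ⧸ J)) Ideal.Quotient.mk_surjective
    exact Algebra.FormallyUnramified.comp (NodeModel C c) E (E ⧸ J)
  haveI hC : Algebra.FormallyUnramified C (E ⧸ J) := by
    rw [Algebra.FormallyUnramified.iff_comp_injective]
    intro B _ _ I hI g₁ g₂ hg
    let ψ : NodeModel C c →+* B := g₁.toRingHom.comp (algebraMap (NodeModel C c) (E ⧸ J))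
    letI : Algebra (NodeModel C c) B := ψ.toAlgebra
    have hψ : g₂.toRingHom.comp (algebraMap (NodeModel C c) (E ⧸ J)) = ψ := by
      refine Ideal.Quotient.ringHom_ext (MvPolynomial.ringHom_ext (fun a => ?_) fun i => ?_)
      · show g₂ (algebraMap (NodeModel C c) (E ⧸ J) (algebraMap C (NodeModel C c) a)) =
          g₁ (algebraMap (NodeModel C c) (E ⧸ J) (algebraMap C (NodeModel C c) a))
        rw [← IsScalarTower.algebraMap_apply C (NodeModel C c) (E ⧸ J), g₁.commutes, g₂.commutes]
      · have h0 : algebraMap (NodeModel C c) (E ⧸ J) (coord c i) = 0 := by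
          rw [IsScalarTower.algebraMap_apply (NodeModel C c) E (E ⧸ J), Ideal.Quotient.algebraMap_eq,
            Ideal.Quotient.eq_zero_iff_mem]
          exact coord_mem_map_fitt c C' i
        show g₂ (algebraMap (NodeModel C c) (E ⧸ J) (coord c i)) = g₁ (algebraMap (NodeModel C c) (E ⧸ J) (coord c i))
        rw [h0, map_zero, map_zero]
    let g₁' : (E ⧸ J) →ₐ[NodeModel C c] B := { g₁.toRingHom with commutes' := fun a => rfl }
    let g₂' : (E ⧸ J) →ₐ[NodeModel C c] B := { g₂.toRingHom with commutes' := fun a => RingHom.congr_fun hψ a }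
    have h' : g₁' = g₂' := by
      refine Algebra.FormallyUnramified.ext I ⟨2, hI⟩ fun z => ?_
      exact AlgHom.congr_fun hg z
    exact AlgHom.ext fun z => AlgHom.congr_fun h' z
  haveI : Algebra.FormallyUnramified C' (E ⧸ J) := Algebra.FormallyUnramified.of_restrictScalars C C' (E ⧸ J)
  exact Algebra.FormallyUnramified.comp R C' (E ⧸ J)

/-- descent of unramifiedness along formally étale charts covering the spectrum -/
theorem formallyUnramified_of_charts {R A : Type u} [CommRing R] [CommRing A] [Algebra R A]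
    [Algebra.EssFiniteType R A] (I : Ideal A)
    (H : ∀ q : Ideal A, q.IsPrime → I ≤ q → ∃ (E : Type u) (_ : CommRing E) (_ : Algebra A E) (_ : Algebra R E)
      (_ : IsScalarTower R A E), Algebra.FormallyEtale A E ∧
        (∃ Q : Ideal E, Q.IsPrime ∧ Q.comap (algebraMap A E) = q) ∧
        Algebra.FormallyUnramified R (E ⧸ I.map (algebraMap A E))) :
    Algebra.FormallyUnramified R (A ⧸ I) := by
  refine ⟨?_⟩
  rw [← Module.support_eq_empty_iff (R := A ⧸ I), Set.eq_empty_iff_forall_notMem]
  intro qb hqb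
  let q : Ideal A := qb.asIdeal.comap (Ideal.Quotient.mk I)
  have hIq : I ≤ q := fun a ha => by
    show Ideal.Quotient.mk I a ∈ qb.asIdeal
    rw [Ideal.Quotient.eq_zero_iff_mem.2 ha]
    exact zero_mem _
  obtain ⟨E, _, _, _, _, hE, ⟨Q, hQ, hQq⟩, hU⟩ := H q inferInstance hIq
  let J := I.map (algebraMap A E)
  letI : Algebra (A ⧸ I) (E ⧸ J) := (Ideal.quotientMap J (algebraMap A E) Ideal.le_comap_map).toAlgebra
  haveI : IsScalarTower A (A ⧸ I) (E ⧸ J) := IsScalarTower.of_algebraMap_eq' rfl
  haveI : IsScalarTower R (A ⧸ I) (E ⧸ J) := IsScalarTower.of_algebraMap_eq' (RingHom.ext fun r => by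
    show Ideal.Quotient.mk J (algebraMap R E r) = Ideal.Quotient.mk J (algebraMap A E (algebraMap R A r))
    rw [← IsScalarTower.algebraMap_apply])
  haveI : Algebra.FormallyEtale (A ⧸ I) (E ⧸ J) := by
    haveI := hE
    exact Algebra.FormallyEtale.of_equiv
      (show ((A ⧸ I) ⊗[A] E) ≃ₐ[A ⧸ I] (E ⧸ J) from
        AlgEquiv.ofRingEquiv (f := ((Algebra.TensorProduct.quotIdealMapEquivTensorQuot E I).toRingEquiv.trans
          (Algebra.TensorProduct.comm A E (A ⧸ I)).toRingEquiv).symm) fun a => by
            obtain ⟨a, rfl⟩ := Ideal.Quotient.mk_surjective a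
            rw [RingEquiv.symm_apply_eq]
            show Ideal.Quotient.mk I a ⊗ₜ[A] (1 : E) =
              Algebra.TensorProduct.comm A E (A ⧸ I) (Algebra.TensorProduct.quotIdealMapEquivTensorQuot E I
                (Ideal.Quotient.mk J (algebraMap A E a)))
            rw [Algebra.TensorProduct.quotIdealMapEquivTensorQuot_mk, Algebra.TensorProduct.comm_tmul,
              show Ideal.Quotient.mk I a = a • (1 : A ⧸ I) from by rw [Algebra.smul_def, mul_one]; rfl,
              show algebraMap A E a = a • (1 : E) from Algebra.algebraMap_eq_smul_one a]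
            exact TensorProduct.smul_tmul a 1 1)
  haveI := hU
  have hsub : Subsingleton ((E ⧸ J) ⊗[A ⧸ I] Ω[(A ⧸ I)⁄R]) :=
    (KaehlerDifferential.tensorKaehlerEquivOfFormallyEtale R (A ⧸ I) (E ⧸ J)).toEquiv.subsingleton
  have hJQ : J ≤ Q := Ideal.map_le_iff_le_comap.2 (hQq ▸ hIq)
  let Qb : PrimeSpectrum (E ⧸ J) := ⟨Q.map (Ideal.Quotient.mk J),
    Ideal.map_isPrime_of_surjective Ideal.Quotient.mk_surjective (by rwa [Ideal.mk_ker])⟩
  have hcomap : PrimeSpectrum.comap (algebraMap (A ⧸ I) (E ⧸ J)) Qb = qb := by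
    refine PrimeSpectrum.ext (Ideal.comap_injective_of_surjective _ Ideal.Quotient.mk_surjective ?_)
    show ((Q.map (Ideal.Quotient.mk J)).comap _).comap (Ideal.Quotient.mk I) = q
    rw [Ideal.comap_comap,
      show ((algebraMap (A ⧸ I) (E ⧸ J))).comp (Ideal.Quotient.mk I) = (Ideal.Quotient.mk J).comp (algebraMap A E)
        from RingHom.ext fun a => rfl,
      ← Ideal.comap_comap, Ideal.comap_map_mk hJQ, hQq]
  have hfin : Module.support (E ⧸ J) ((E ⧸ J) ⊗[A ⧸ I] Ω[(A ⧸ I)⁄R]) = ∅ := Module.support_eq_empty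
  haveI := hsub
  haveI : Algebra.EssFiniteType R (A ⧸ I) := Algebra.EssFiniteType.comp R A (A ⧸ I)
  have hnt : Nontrivial (qb.asIdeal.ResidueField ⊗[A ⧸ I] Ω[(A ⧸ I)⁄R]) :=
    (Module.mem_support_iff_nontrivial_residueField_tensorProduct qb).1 hqb
  obtain ⟨v, hv⟩ := exists_ne (0 : qb.asIdeal.ResidueField ⊗[A ⧸ I] Ω[(A ⧸ I)⁄R])
  obtain ⟨ψ, hψ⟩ := Module.Projective.exists_dual_ne_zero qb.asIdeal.ResidueField hv
  haveI hQb : Qb.asIdeal.IsPrime := Qb.isPrime
  let ι : qb.asIdeal.ResidueField →+* Qb.asIdeal.ResidueField :=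
    Ideal.ResidueField.map qb.asIdeal Qb.asIdeal (algebraMap (A ⧸ I) (E ⧸ J)) (congrArg PrimeSpectrum.asIdeal hcomap).symm
  refine hψ ((map_eq_zero_iff ι ι.injective).1 ?_)
  have hι : ∀ a : A ⧸ I, ι (algebraMap (A ⧸ I) qb.asIdeal.ResidueField a) =
      algebraMap (E ⧸ J) Qb.asIdeal.ResidueField (algebraMap (A ⧸ I) (E ⧸ J) a) := fun a =>
    Ideal.ResidueField.map_algebraMap _ _ _ _ _
  let ψ' : Ω[(A ⧸ I)⁄R] →ₗ[A ⧸ I] Qb.asIdeal.ResidueField :=
    { toFun := fun m => ι (ψ (1 ⊗ₜ m))
      map_add' := fun m m' => by rw [TensorProduct.tmul_add, map_add, map_add]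
      map_smul' := fun a m => by
        rw [RingHom.id_apply, ← TensorProduct.smul_tmul, ← Algebra.algebraMap_eq_smul_one,
          ← mul_one (algebraMap (A ⧸ I) qb.asIdeal.ResidueField a), ← smul_eq_mul,
          ← TensorProduct.smul_tmul', map_smul, smul_eq_mul, map_mul, hι, Algebra.smul_def,
          IsScalarTower.algebraMap_apply (A ⧸ I) (E ⧸ J) Qb.asIdeal.ResidueField] }
  have hzero : ∀ m, ψ' m = 0 := fun m => by
    have h := LinearMap.liftBaseChange_one_tmul (E ⧸ J) ψ' m
    rw [← h, Subsingleton.elim ((1 : E ⧸ J) ⊗ₜ[A ⧸ I] m) 0, map_zero]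
  clear hv hψ
  induction v using TensorProduct.induction_on with
  | zero => rw [map_zero, map_zero]
  | add x y hx hy => rw [map_add, map_add, hx, hy, add_zero]
  | tmul t m =>
    rw [show t ⊗ₜ[A ⧸ I] m = t • ((1 : qb.asIdeal.ResidueField) ⊗ₜ[A ⧸ I] m) by
      rw [TensorProduct.smul_tmul', smul_eq_mul, mul_one], map_smul, smul_eq_mul, map_mul,
      show ι (ψ (1 ⊗ₜ m)) = 0 from hzero m, mul_zero]

end Groth.L05.SingLocus
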